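import Mathlib
import Cfsg.Agent.H77.A2.Power.Data

/-!
A derivation that (x y³)¹² fixes the first coset (generated data).
-/

set_option autoImplicit false
set_option maxRecDepth 100000
set_option linter.all false
set_option Elab.async false

namespace H77
namespace A2
namespace Power

open H93.CosetI

noncomputable section

def st0 : List Step := [
(0,[],[]),
(0,[],[]),
(0,[],[]),
(0,[],[]),
(0,[],[]),
(0,[],[]),
(3,[2,4,6,8,10],[]),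
(0,[],[]),
(0,[],[]),
(0,[],[]),
(0,[],[]),
(0,[],[]),
(0,[],[]),
(0,[],[]),
(0,[],[]),
(0,[],[]),
(4,[2,14,16,18,20,22,24,26,28,30],[0]),
(0,[],[]),
(0,[],[]),
(0,[],[]),
(0,[],[]),
(0,[],[]),
(0,[],[]),
(0,[],[]),
(0,[],[]),
(0,[],[]),
(0,[],[]),
(0,[],[]),
(0,[],[]),
(6,[2,14,34,36,38,40,42,44,46,48,50,52,54,56],[0]),
(0,[],[]),
(0,[],[]),
(0,[],[]),
(0,[],[]),
(0,[],[]),
(0,[],[]),
(0,[],[]),
(0,[],[]),
(0,[],[]),
(0,[],[]),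
(0,[],[]),
(0,[],[]),
(0,[],[]),
(0,[],[]),
(0,[],[]),
(8,[13,11,60,62,64,66,68,70,72,74,76,78,80,82,84,86,88],[0,59]),
(0,[],[]),
(0,[],[]),
(0,[],[]),
(0,[],[]),
(0,[],[]),
(0,[],[]),
(0,[],[]),
(0,[],[]),
(0,[],[]),
(0,[],[]),
(0,[],[]),
(0,[],[]),
(0,[],[]),
(5,[2,4,6,92,94,96,98,100,102,104,106,108,110,112,114,116],[0,59,91,89]),
(0,[],[]),
(0,[],[]),
(0,[],[]),
(0,[],[]),
(0,[],[]),
(0,[],[]),
(0,[],[]),
(0,[],[]),
(0,[],[]),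
(0,[],[]),
(0,[],[]),
(0,[],[]),
(0,[],[]),
(0,[],[]),
(7,[2,4,6,92,94,120,122,124,126,128,130,132,134,136,138,140,142,144,146],[0,59,57,55]),
(0,[],[]),
(0,[],[]),
(3,[33,150,152],[59,91]),
(0,[],[]),
(0,[],[]),
(0,[],[]),
(0,[],[]),
(0,[],[]),
(0,[],[]),
(0,[],[]),
(0,[],[]),
(0,[],[]),
(0,[],[]),
(0,[],[]),
(6,[33,31,156,158,160,162,164,166,168,170,172,174,176],[1,13]),
(0,[],[]),
(0,[],[]),
(0,[],[]),
(0,[],[]),
(0,[],[]),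
(0,[],[]),
(0,[],[]),
(0,[],[]),
(0,[],[]),
(0,[],[]),
(0,[],[]),
(0,[],[]),
(0,[],[]),
(5,[33,150,152,180,182,184,186,188,190,192,194,196,198,200,202,204],[1,13,11,60]),
(0,[],[]),
(0,[],[]),
(0,[],[]),
(0,[],[]),
(0,[],[]),
(0,[],[]),
(0,[],[]),
(0,[],[]),
(0,[],[]),
(0,[],[]),
(0,[],[]),
(0,[],[]),
(0,[],[]),
(0,[],[]),
(7,[33,150,152,180,182,208,210,212,214,216,218,220,222,224,226,228,230,232,234],[1,13,179,177]),
(0,[],[]),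
(0,[],[]),
(0,[],[]),
(0,[],[]),
(0,[],[]),
(0,[],[]),
(0,[],[]),
(4,[4,238,240,242,244,246,248,250],[14,34,36]),
(0,[],[]),
(0,[],[]),
(0,[],[]),
(0,[],[]),
(0,[],[]),
(0,[],[]),
(0,[],[]),
(0,[],[]),
(0,[],[]),
(0,[],[]),
(6,[4,238,254,256,258,260,262,264,266,268,270,272],[14,16,18]),
(0,[],[]),
(0,[],[]),
(0,[],[]),
(0,[],[]),
(0,[],[]),
(0,[],[]),
(0,[],[]),
(0,[],[]),
(0,[],[]),
(0,[],[]),
(0,[],[]),
(0,[],[]),
(0,[],[]),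
(0,[],[]),
(8,[3,13,179,276,278,280,282,284,286,288,290,292,294,296,298,300,302],[14,16]),
(0,[],[]),
(0,[],[]),
(0,[],[]),
(0,[],[]),
(0,[],[]),
(0,[],[]),
(0,[],[]),
(0,[],[]),
(0,[],[]),
(0,[],[]),
(0,[],[]),
(5,[4,6,8,60,62,306,308,310,312,314,316,318,320,322,324,326],[14,16,305,303]),
(0,[],[]),
(0,[],[]),
(0,[],[]),
(0,[],[]),
(0,[],[]),
(0,[],[]),
(0,[],[]),
(0,[],[]),
(0,[],[]),
(0,[],[]),
(0,[],[]),
(0,[],[]),
(7,[4,6,8,60,62,64,66,330,332,334,336,338,340,342,344,346,348,350,352],[14,16,18,275]),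
(3,[62,306],[207,205,203]),
(0,[],[]),
(0,[],[]),
(0,[],[]),
(0,[],[]),
(0,[],[]),
(0,[],[]),
(4,[6,92,358,360,362,364,366,368],[238,254,256]),
(0,[],[]),
(0,[],[]),
(0,[],[]),
(0,[],[]),
(0,[],[]),
(0,[],[]),
(0,[],[]),
(6,[6,92,94,120,122,372,374,376,378,380,382,384],[238,240,242]),
(0,[],[]),
(0,[],[]),
(0,[],[]),
(0,[],[]),
(0,[],[]),
(0,[],[]),
(0,[],[]),
(0,[],[]),
(0,[],[]),
(0,[],[]),
(8,[5,3,0,33,31,156,158,388,390,392,394,396,398,400,402,404,406],[238,240]),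
(0,[],[]),
(0,[],[]),
(0,[],[]),
(0,[],[]),
(0,[],[]),
(0,[],[]),
(0,[],[]),
(0,[],[]),
(0,[],[]),
(0,[],[]),
(0,[],[]),
(5,[6,8,10,179,276,410,412,414,416,418,420,422,424,426,428,430],[238,240,409,407]),
(0,[],[]),
(0,[],[]),
(0,[],[]),
(0,[],[]),
(0,[],[]),
(0,[],[]),
(0,[],[]),
(0,[],[]),
(0,[],[]),
(0,[],[]),
(0,[],[]),
(0,[],[]),
(7,[6,8,10,179,276,278,280,434,436,438,440,442,444,446,448,450,452,454,456],[238,240,242,387]),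
(0,[],[]),
(0,[],[]),
(0,[],[]),
(0,[],[]),
(0,[],[]),
(4,[8,60,207,460,462,464,466,468],[92,94,120]),
(0,[],[]),
(0,[],[]),
(0,[],[]),
(0,[],[]),
(0,[],[]),
(0,[],[]),
(6,[8,60,62,64,66,68,472,474,476,478,480,482],[92,358,360]),
(0,[],[]),
(0,[],[]),
(0,[],[]),
(0,[],[]),
(0,[],[]),
(0,[],[]),
(0,[],[])]
theorem ok0 : data.stepsOK st0 0 = true := by decide +kernel
def st1 : List Step := [
(0,[],[]),
(0,[],[]),
(0,[],[]),
(8,[7,5,14,34,36,38,40,486,488,490,492,494,496,498,500,502,504],[92,358]),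
(0,[],[]),
(0,[],[]),
(0,[],[]),
(0,[],[]),
(0,[],[]),
(0,[],[]),
(0,[],[]),
(0,[],[]),
(0,[],[]),
(0,[],[]),
(5,[8,10,12,0,33,150,508,510,512,514,516,518,520,522,524,526],[92,358,507,505]),
(0,[],[]),
(0,[],[]),
(0,[],[]),
(0,[],[]),
(0,[],[]),
(0,[],[]),
(0,[],[]),
(0,[],[]),
(0,[],[]),
(0,[],[]),
(0,[],[]),
(0,[],[]),
(7,[8,10,12,0,33,31,156,530,532,534,536,538,540,542,544,546,548,550,552],[92,358,360,485]),
(3,[176,276,410],[237,235]),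
(0,[],[]),
(0,[],[]),
(0,[],[]),
(0,[],[]),
(4,[10,179,177,175,558,560,562,564],[60,62,64]),
(0,[],[]),
(0,[],[]),
(0,[],[]),
(0,[],[]),
(0,[],[]),
(0,[],[]),
(6,[10,179,276,278,280,282,568,570,572,574,576,578],[60,207,460]),
(0,[],[]),
(0,[],[]),
(0,[],[]),
(0,[],[]),
(0,[],[]),
(0,[],[]),
(0,[],[]),
(0,[],[]),
(0,[],[]),
(8,[9,7,238,254,256,258,260,582,584,586,588,590,592,594,596,598],[60,207,205]),
(0,[],[]),
(0,[],[]),
(0,[],[]),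
(0,[],[]),
(0,[],[]),
(0,[],[]),
(0,[],[]),
(0,[],[]),
(0,[],[]),
(0,[],[]),
(0,[],[]),
(5,[10,12,2,14,34,602,604,606,608,610,612,614,616,618,620,622],[60,207,205,601]),
(0,[],[]),
(0,[],[]),
(0,[],[]),
(0,[],[]),
(0,[],[]),
(0,[],[]),
(0,[],[]),
(0,[],[]),
(0,[],[]),
(0,[],[]),
(4,[12,0,59,57,638,640,642,644],[179,276,278]),
(0,[],[]),
(0,[],[]),
(0,[],[]),
(0,[],[]),
(0,[],[]),
(0,[],[]),
(0,[],[]),
(0,[],[]),
(0,[],[]),
(8,[11,9,92,94,120,122,372,648,650,652,654,656,658,660,662,664],[179,177,237]),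
(0,[],[]),
(0,[],[]),
(0,[],[]),
(0,[],[]),
(0,[],[]),
(0,[],[]),
(0,[],[]),
(0,[],[]),
(0,[],[]),
(0,[],[]),
(0,[],[]),
(0,[],[]),
(0,[],[]),
(0,[],[]),
(0,[],[]),
(7,[12,2,4,238,254,256,258,674,676,678,680,682,684,686,688,690,692,694,696],[179,177,175,173]),
(0,[],[]),
(3,[34,602,700],[16,305]),
(0,[],[]),
(0,[],[]),
(0,[],[]),
(0,[],[]),
(0,[],[]),
(0,[],[]),
(0,[],[]),
(0,[],[]),
(5,[34,602,700,704,706,708,710,712,714,716,718],[15,3,13,179,177,237,235,233,231]),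
(0,[],[]),
(0,[],[]),
(0,[],[]),
(0,[],[]),
(0,[],[]),
(0,[],[]),
(0,[],[]),
(0,[],[]),
(0,[],[]),
(0,[],[]),
(0,[],[]),
(7,[34,602,700,704,706,722,724,726,728,730,732,734,736,738,740,742],[15,3,0,59,91,155,180]),
(0,[],[]),
(0,[],[]),
(0,[],[]),
(0,[],[]),
(0,[],[]),
(0,[],[]),
(0,[],[]),
(0,[],[]),
(0,[],[]),
(0,[],[]),
(8,[305,703,704,706,722,724,746,748,750,752,754,756,758,760,762,764],[18,275,355]),
(0,[],[]),
(0,[],[]),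
(0,[],[]),
(0,[],[]),
(0,[],[]),
(0,[],[]),
(0,[],[]),
(0,[],[]),
(0,[],[]),
(0,[],[]),
(5,[17,34,602,604,606,608,768,770,772,774,776,778,780,782,784,786],[18,275,355,767]),
(0,[],[]),
(0,[],[]),
(0,[],[]),
(0,[],[]),
(0,[],[]),
(0,[],[]),
(0,[],[]),
(0,[],[]),
(0,[],[]),
(0,[],[]),
(0,[],[]),
(0,[],[]),
(0,[],[]),
(0,[],[]),
(7,[17,34,602,604,606,790,792,794,796,798,800,802,804,806,808,810,812,814,816],[18,275,273,271]),
(0,[],[]),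
(3,[20,820],[275,355,353]),
(0,[],[]),
(0,[],[]),
(0,[],[]),
(0,[],[]),
(0,[],[]),
(0,[],[]),
(0,[],[]),
(0,[],[]),
(0,[],[]),
(6,[20,22,824,826,828,830,832,834,836,838,840],[19,305,303,329]),
(0,[],[]),
(0,[],[]),
(0,[],[]),
(0,[],[]),
(0,[],[]),
(0,[],[]),
(0,[],[]),
(0,[],[]),
(0,[],[]),
(0,[],[]),
(0,[],[]),
(0,[],[]),
(5,[20,820,822,351,844,846,848,850,852,854,856,858,860,862,864,866],[19,305,703,704]),
(0,[],[]),
(0,[],[]),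
(0,[],[]),
(0,[],[]),
(0,[],[]),
(0,[],[]),
(0,[],[]),
(0,[],[]),
(0,[],[]),
(0,[],[]),
(7,[20,820,822,351,844,870,872,874,876,878,880,882,884,886,888],[19,305,303,329,327,325,323,321]),
(0,[],[]),
(0,[],[]),
(0,[],[]),
(0,[],[]),
(0,[],[]),
(0,[],[]),
(0,[],[]),
(4,[820,892,894,896,898,900,902,904],[22,824,826]),
(0,[],[]),
(0,[],[]),
(0,[],[]),
(0,[],[]),
(0,[],[]),
(0,[],[]),
(0,[],[]),
(0,[],[]),
(0,[],[]),
(0,[],[]),
(6,[820,892,908,910,912,914,916,918,920,922,924,926],[22,24,26]),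
(0,[],[]),
(0,[],[]),
(0,[],[]),
(0,[],[]),
(0,[],[]),
(0,[],[]),
(0,[],[]),
(0,[],[]),
(0,[],[]),
(0,[],[]),
(0,[],[]),
(0,[],[]),
(0,[],[]),
(0,[],[]),
(8,[21,275,273,930,932,934,936,938,940,942,944,946,948,950,952,954,956],[22,24]),
(0,[],[]),
(0,[],[]),
(0,[],[]),
(0,[],[]),
(0,[],[]),
(0,[],[]),
(0,[],[]),
(0,[],[]),
(0,[],[]),
(0,[],[]),
(0,[],[]),
(5,[820,822,352,767,765,960,962,964,966,968,970,972,974,976,978,980],[22,24,959,957]),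
(0,[],[]),
(0,[],[]),
(0,[],[]),
(0,[],[]),
(0,[],[]),
(0,[],[]),
(0,[],[]),
(0,[],[])]
theorem ok1 : data.stepsOK st1 250 = true := by decide +kernel
def st2 : List Step := [
(0,[],[]),
(0,[],[]),
(0,[],[]),
(0,[],[]),
(7,[820,822,352,767,765,763,761,984,986,988,990,992,994,996,998,1000,1002,1004,1006],[22,24,26,929]),
(3,[28,156,530,532],[929,1009]),
(1,[1011],[]),
(1,[1013,1008],[]),
(1,[1013,1007],[]),
(1,[532,1016],[]),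
(1,[1019],[]),
(1,[1021,1005],[]),
(3,[706,708],[869,867,865]),
(3,[960],[764,789,787,785]),
(0,[],[]),
(0,[],[]),
(3,[824,1028,1030],[24,959]),
(0,[],[]),
(0,[],[]),
(0,[],[]),
(0,[],[]),
(0,[],[]),
(0,[],[]),
(0,[],[]),
(0,[],[]),
(5,[824,1028,1030,1034,1036,1038,1040,1042,1044,1046,1048],[23,21,275,273,271,819,817,815,813]),
(0,[],[]),
(0,[],[]),
(0,[],[]),
(0,[],[]),
(0,[],[]),
(0,[],[]),
(0,[],[]),
(0,[],[]),
(0,[],[]),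
(0,[],[]),
(0,[],[]),
(7,[824,1028,1030,1034,1036,1052,1054,1056,1058,1060,1062,1064,1066,1068,1070,1072],[23,21,19,305,703,701,604]),
(0,[],[]),
(0,[],[]),
(0,[],[]),
(0,[],[]),
(0,[],[]),
(0,[],[]),
(8,[959,1033,1034,1036,1052,1054,1076,1078,1080,1082,1084,1086],[26,929,1015,534,536,538,540]),
(0,[],[]),
(0,[],[]),
(0,[],[]),
(0,[],[]),
(0,[],[]),
(0,[],[]),
(0,[],[]),
(0,[],[]),
(0,[],[]),
(0,[],[]),
(0,[],[]),
(0,[],[]),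
(0,[],[]),
(5,[25,824,1028,1090,1092,1094,1096,1098,1100,1102,1104,1106,1108,1110,1112,1114],[26,929,1015,534]),
(0,[],[]),
(0,[],[]),
(0,[],[]),
(0,[],[]),
(0,[],[]),
(0,[],[]),
(6,[28,30,150,508,510,1118,1120,1122,1124,1126,1128],[27,959,957,983]),
(0,[],[]),
(0,[],[]),
(0,[],[]),
(0,[],[]),
(0,[],[]),
(0,[],[]),
(0,[],[]),
(0,[],[]),
(0,[],[]),
(0,[],[]),
(0,[],[]),
(0,[],[]),
(5,[28,156,530,1022,1132,1134,1136,1138,1140,1142,1144,1146,1148,1150,1152,1154],[27,959,1033,1034]),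
(0,[],[]),
(0,[],[]),
(0,[],[]),
(0,[],[]),
(0,[],[]),
(0,[],[]),
(0,[],[]),
(4,[156,158,388,1162,1164,1166,1168,1170],[30,150,508]),
(0,[],[]),
(0,[],[]),
(0,[],[]),
(0,[],[]),
(0,[],[]),
(0,[],[]),
(0,[],[]),
(0,[],[]),
(0,[],[]),
(0,[],[]),
(8,[29,929,927,1174,1176,1178,1180,1182,1184,1186,1188,1190,1192],[30,32,59,57,638,640]),
(0,[],[]),
(0,[],[]),
(0,[],[]),
(0,[],[]),
(0,[],[]),
(0,[],[]),
(5,[156,530,532,534,536,1196,1198,1200,1202,1204,1206],[30,32,59,57,55,149,147,145,143]),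
(0,[],[]),
(0,[],[]),
(0,[],[]),
(0,[],[]),
(0,[],[]),
(0,[],[]),
(0,[],[]),
(0,[],[]),
(0,[],[]),
(0,[],[]),
(0,[],[]),
(7,[150,152,154,89,87,85,83,1214,1216,1218,1220,1222,1224,1226,1228,1230],[31,29,27,959,1033,1031,1090]),
(3,[1210],[86,119,117,115]),
(3,[536,1196],[1117,1115,1113]),
(3,[1036,1038],[1157,1155,1153]),
(0,[],[]),
(0,[],[]),
(0,[],[]),
(4,[602,604,1075,1073,1240,1242,1244],[36,38,40,486]),
(0,[],[]),
(0,[],[]),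
(0,[],[]),
(0,[],[]),
(0,[],[]),
(0,[],[]),
(0,[],[]),
(6,[602,604,606,790,792,1248,1250,1252,1254,1256,1258,1260],[36,253,251]),
(0,[],[]),
(0,[],[]),
(0,[],[]),
(0,[],[]),
(0,[],[]),
(0,[],[]),
(0,[],[]),
(0,[],[]),
(0,[],[]),
(8,[35,16,18,20,22,824,826,907,1264,1266,1268,1270,1272,1274,1276,1278,1280],[36,253]),
(0,[],[]),
(0,[],[]),
(0,[],[]),
(0,[],[]),
(0,[],[]),
(0,[],[]),
(0,[],[]),
(0,[],[]),
(0,[],[]),
(0,[],[]),
(0,[],[]),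
(5,[602,700,702,303,301,1284,1286,1288,1290,1292,1294,1296,1298,1300,1302,1304],[36,253,1283,1281]),
(0,[],[]),
(0,[],[]),
(0,[],[]),
(0,[],[]),
(0,[],[]),
(0,[],[]),
(0,[],[]),
(0,[],[]),
(0,[],[]),
(0,[],[]),
(0,[],[]),
(0,[],[]),
(7,[602,700,702,303,301,299,297,1308,1310,1312,1314,1316,1318,1320,1322,1324,1326,1328,1330],[36,253,251,1263]),
(3,[38,626,628],[253,1283]),
(0,[],[]),
(0,[],[]),
(0,[],[]),
(0,[],[]),
(0,[],[]),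
(0,[],[]),
(5,[38,626,628,630,632,1336,1338,1340,1342,1344,1346],[37,35,16,18,275,355,353,351,349]),
(0,[],[]),
(0,[],[]),
(0,[],[]),
(0,[],[]),
(0,[],[]),
(0,[],[]),
(0,[],[]),
(4,[626,1350,1352,1354,1356,1358,1360,1362],[40,42,44]),
(0,[],[]),
(0,[],[]),
(0,[],[]),
(0,[],[]),
(0,[],[]),
(0,[],[]),
(0,[],[]),
(0,[],[]),
(0,[],[]),
(0,[],[]),
(8,[39,253,251,249,247,1368,1370,1372,1374,1376,1378,1380,1382,1384],[40,486,488,490,492]),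
(0,[],[]),
(0,[],[]),
(0,[],[]),
(0,[],[]),
(0,[],[]),
(0,[],[]),
(0,[],[]),
(0,[],[]),
(0,[],[]),
(0,[],[]),
(0,[],[]),
(5,[626,628,1334,1281,1279,1388,1390,1392,1394,1396,1398,1400,1402,1404,1406,1408],[40,486,488,490]),
(3,[244,1368],[387,459,457]),
(3,[1284],[300,329,327,325]),
(3,[492,494],[1411,1409,1407]),
(3,[1388],[1278,1307,1305,1303]),
(0,[],[]),
(0,[],[]),
(3,[42,1420,1422],[486,488]),
(0,[],[]),
(0,[],[]),
(0,[],[]),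
(0,[],[]),
(0,[],[]),
(0,[],[]),
(0,[],[]),
(0,[],[]),
(0,[],[]),
(0,[],[]),
(7,[42,1420,1422,1426,1428,1430,1432,1434,1436,1438,1440,1442,1444],[41,39,37,35,16,305,303,329,843,841]),
(0,[],[]),
(0,[],[]),
(0,[],[]),
(0,[],[]),
(0,[],[]),
(0,[],[]),
(0,[],[]),
(4,[1420,1448,1450,1452,1454,1456,1458,1460],[44,46,48]),
(0,[],[]),
(0,[],[]),
(0,[],[]),
(0,[],[]),
(0,[],[]),
(0,[],[]),
(0,[],[]),
(0,[],[]),
(0,[],[]),
(0,[],[]),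
(6,[1420,1448,1464,1466,1468,1470,1472,1474,1476,1478,1480,1482],[44,1365,1363]),
(0,[],[]),
(0,[],[]),
(0,[],[]),
(0,[],[]),
(0,[],[]),
(0,[],[]),
(0,[],[])]
theorem ok2 : data.stepsOK st2 500 = true := by decide +kernel
def st3 : List Step := [
(0,[],[]),
(0,[],[]),
(0,[],[]),
(0,[],[]),
(0,[],[]),
(8,[43,486,1247,1245,1243,1486,1488,1490,1492,1494,1496,1498,1500,1502,1504,1506,1508],[44,1365]),
(0,[],[]),
(0,[],[]),
(0,[],[]),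
(0,[],[]),
(0,[],[]),
(0,[],[]),
(0,[],[]),
(0,[],[]),
(0,[],[]),
(5,[1420,1422,1424,490,492,494,496,1512,1514,1516,1518,1520,1522,1524,1526,1528],[44,1365,1511,1509]),
(0,[],[]),
(0,[],[]),
(0,[],[]),
(0,[],[]),
(0,[],[]),
(0,[],[]),
(0,[],[]),
(0,[],[]),
(0,[],[]),
(0,[],[]),
(0,[],[]),
(0,[],[]),
(7,[1420,1422,1424,490,492,1387,1385,1532,1534,1536,1538,1540,1542,1544,1546,1548,1550,1552,1554],[44,1365,1363,1485]),
(3,[1066,1068,1070,1240,1486],[]),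
(0,[],[]),
(0,[],[]),
(3,[46,1560,1562],[1365,1511]),
(0,[],[]),
(0,[],[]),
(0,[],[]),
(0,[],[]),
(0,[],[]),
(0,[],[]),
(0,[],[]),
(0,[],[]),
(0,[],[]),
(0,[],[]),
(0,[],[]),
(0,[],[]),
(0,[],[]),
(7,[46,1560,1562,1566,1568,1572,1574,1576,1578,1580,1582,1584,1586,1588,1590],[45,43,41,39,253,1283,1281,1307]),
(0,[],[]),
(0,[],[]),
(0,[],[]),
(0,[],[]),
(0,[],[]),
(0,[],[]),
(4,[1560,1594,1596,1598,1600,1602,1604],[48,50,52,149]),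
(0,[],[]),
(0,[],[]),
(0,[],[]),
(0,[],[]),
(0,[],[]),
(0,[],[]),
(0,[],[]),
(0,[],[]),
(0,[],[]),
(0,[],[]),
(6,[1560,1594,1608,1610,1612,1614,1616,1618,1620,1622,1624,1626],[48,1463,1461]),
(0,[],[]),
(0,[],[]),
(0,[],[]),
(0,[],[]),
(0,[],[]),
(0,[],[]),
(0,[],[]),
(0,[],[]),
(0,[],[]),
(0,[],[]),
(0,[],[]),
(0,[],[]),
(8,[47,1365,1363,1361,1359,1630,1632,1634,1636,1638,1640,1642,1644,1646,1648,1650,1652],[48,1463]),
(0,[],[]),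
(0,[],[]),
(0,[],[]),
(0,[],[]),
(0,[],[]),
(0,[],[]),
(0,[],[]),
(0,[],[]),
(0,[],[]),
(0,[],[]),
(0,[],[]),
(5,[1560,1562,1564,1509,1507,1656,1658,1660,1662,1664,1666,1668,1670,1672,1674,1676],[48,1463,1655,1653]),
(0,[],[]),
(0,[],[]),
(0,[],[]),
(0,[],[]),
(0,[],[]),
(0,[],[]),
(0,[],[]),
(0,[],[]),
(0,[],[]),
(0,[],[]),
(0,[],[]),
(0,[],[]),
(7,[1560,1562,1564,1509,1507,1505,1503,1680,1682,1684,1686,1688,1690,1692,1694,1696,1698,1700,1702],[48,1463,1461,1629]),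
(3,[1656],[1506,1531,1529,1527]),
(0,[],[]),
(0,[],[]),
(3,[50,1708,1710],[1463,1655]),
(0,[],[]),
(0,[],[]),
(0,[],[]),
(0,[],[]),
(0,[],[]),
(0,[],[]),
(0,[],[]),
(0,[],[]),
(0,[],[]),
(0,[],[]),
(0,[],[]),
(0,[],[]),
(7,[50,1708,1710,1714,1716,1718,1720,1722,1724,1726,1728,1730,1732,1734,1736],[49,47,45,43,486,488,490,1411]),
(0,[],[]),
(0,[],[]),
(0,[],[]),
(4,[1708,1740,1742,1744],[52,54,56,91,89,87,85]),
(0,[],[]),
(0,[],[]),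
(0,[],[]),
(0,[],[]),
(0,[],[]),
(0,[],[]),
(0,[],[]),
(0,[],[]),
(0,[],[]),
(0,[],[]),
(8,[51,1463,1461,1459,1457,1748,1750,1752,1754,1756,1758,1760,1762,1764,1766],[52,149,147,145]),
(0,[],[]),
(0,[],[]),
(0,[],[]),
(0,[],[]),
(0,[],[]),
(0,[],[]),
(0,[],[]),
(0,[],[]),
(0,[],[]),
(5,[1708,1710,1712,1653,1651,1770,1772,1774,1776,1778,1780,1782,1784,1786],[52,149,147,145,143,1209]),
(0,[],[]),
(0,[],[]),
(0,[],[]),
(3,[54,638,1794],[149,147]),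
(0,[],[]),
(0,[],[]),
(0,[],[]),
(0,[],[]),
(0,[],[]),
(0,[],[]),
(0,[],[]),
(0,[],[]),
(5,[54,638,1794,1798,1800,1802,1804,1806,1808,1810,1812],[53,51,1463,1461,1629,1705,1703,1701,1699]),
(0,[],[]),
(0,[],[]),
(0,[],[]),
(0,[],[]),
(0,[],[]),
(0,[],[]),
(0,[],[]),
(0,[],[]),
(0,[],[]),
(0,[],[]),
(7,[54,638,1794,1798,1800,1816,1818,1820,1822,1824,1826,1828,1830,1832,1834],[53,51,49,47,1365,1511,1509,1531]),
(0,[],[]),
(0,[],[]),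
(0,[],[]),
(0,[],[]),
(0,[],[]),
(0,[],[]),
(0,[],[]),
(6,[638,640,1195,1193,1838,1840,1842,1844,1846,1848,1850],[56,91,89,119]),
(0,[],[]),
(0,[],[]),
(0,[],[]),
(0,[],[]),
(0,[],[]),
(0,[],[]),
(0,[],[]),
(8,[55,149,1607,1605,1603,1854,1856,1858,1860,1862,1864,1866],[56,91,155,180,182,208,210]),
(0,[],[]),
(0,[],[]),
(0,[],[]),
(0,[],[]),
(0,[],[]),
(0,[],[]),
(0,[],[]),
(0,[],[]),
(0,[],[]),
(0,[],[]),
(5,[638,1794,1796,145,1769,1870,1872,1874,1876,1878,1880,1882,1884,1886,1888],[56,91,155,180,745]),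
(0,[],[]),
(0,[],[]),
(0,[],[]),
(0,[],[]),
(0,[],[]),
(0,[],[]),
(0,[],[]),
(0,[],[]),
(7,[638,1794,1796,145,1769,1767,1765,1892,1894,1896,1898,1900,1902,1904,1906],[56,91,89,119,117,115,113,111]),
(3,[142,1769,1870],[1209,1789]),
(3,[182,184],[745,1891,1889]),
(0,[],[]),
(0,[],[]),
(0,[],[]),
(0,[],[]),
(0,[],[]),
(0,[],[]),
(0,[],[]),
(0,[],[]),
(7,[58,33,150,508,510,1118,1120,1914,1916,1918,1920,1922,1924,1926,1928],[57,55,53,51,1463,1655,1653,1679]),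
(0,[],[]),
(0,[],[]),
(0,[],[]),
(0,[],[]),
(0,[],[]),
(0,[],[]),
(0,[],[]),
(0,[],[]),
(0,[],[]),
(0,[],[]),
(5,[62,306,356,201,1932,1934,1936,1938,1940,1942,1944,1946,1948,1950],[61,9,7,238,240,409]),
(0,[],[]),
(0,[],[]),
(0,[],[]),
(0,[],[]),
(0,[],[]),
(0,[],[]),
(0,[],[]),
(0,[],[]),
(0,[],[]),
(0,[],[]),
(0,[],[]),
(0,[],[]),
(0,[],[]),
(7,[62,306,356,201,1932,1954,1956,1958,1960,1962,1964,1966,1968,1970,1972,1974,1976,1978],[61,9,92,358,507]),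
(0,[],[]),
(0,[],[]),
(0,[],[]),
(0,[],[]),
(0,[],[]),
(4,[306,308,1982,1984,1986,1988,1990],[64,66,68,70]),
(0,[],[]),
(0,[],[]),
(0,[],[])]
theorem ok3 : data.stepsOK st3 750 = true := by decide +kernel
def st4 : List Step := [
(0,[],[]),
(0,[],[]),
(0,[],[]),
(0,[],[]),
(0,[],[]),
(0,[],[]),
(0,[],[]),
(0,[],[]),
(0,[],[]),
(8,[63,207,460,462,464,1994,1996,1998,2000,2002,2004,2006,2008,2010,2012,2014,2016],[64,567]),
(0,[],[]),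
(0,[],[]),
(0,[],[]),
(0,[],[]),
(0,[],[]),
(0,[],[]),
(0,[],[]),
(0,[],[]),
(0,[],[]),
(0,[],[]),
(0,[],[]),
(5,[306,356,202,601,599,2020,2022,2024,2026,2028,2030,2032,2034,2036,2038,2040],[64,567,2019,2017]),
(0,[],[]),
(0,[],[]),
(0,[],[]),
(0,[],[]),
(3,[66,330,332],[567,2019]),
(3,[94,96],[358,507,1981]),
(3,[254,668],[240,409,1953]),
(3,[2020],[598,625,623,621]),
(0,[],[]),
(0,[],[]),
(0,[],[]),
(0,[],[]),
(0,[],[]),
(0,[],[]),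
(0,[],[]),
(0,[],[]),
(0,[],[]),
(0,[],[]),
(4,[330,2066,2068,2070,2072,2074,2076,2078],[68,472,474]),
(0,[],[]),
(0,[],[]),
(0,[],[]),
(0,[],[]),
(0,[],[]),
(0,[],[]),
(0,[],[]),
(0,[],[]),
(0,[],[]),
(8,[67,567,565,563,561,2082,2084,2086,2088,2090,2092,2094,2096,2098],[68,70,72,74,76]),
(0,[],[]),
(0,[],[]),
(0,[],[]),
(0,[],[]),
(0,[],[]),
(0,[],[]),
(0,[],[]),
(0,[],[]),
(0,[],[]),
(0,[],[]),
(0,[],[]),
(5,[330,332,2052,2017,2015,2102,2104,2106,2108,2110,2112,2114,2116,2118,2120,2122],[68,70,72,74]),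
(3,[76,78],[2125,2123,2121]),
(3,[172,558,2082],[699,697]),
(3,[2102],[2014,2043,2041,2039]),
(0,[],[]),
(0,[],[]),
(3,[472,2132,2134],[70,72]),
(0,[],[]),
(0,[],[]),
(0,[],[]),
(0,[],[]),
(0,[],[]),
(0,[],[]),
(0,[],[]),
(0,[],[]),
(0,[],[]),
(0,[],[]),
(0,[],[]),
(0,[],[]),
(7,[472,2132,2134,2138,2140,2142,2144,2146,2148,2150,2152,2154,2156,2158,2160],[69,67,65,63,207,205,601,625]),
(0,[],[]),
(0,[],[]),
(0,[],[]),
(0,[],[]),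
(0,[],[]),
(0,[],[]),
(0,[],[]),
(0,[],[]),
(0,[],[]),
(6,[73,1993,1991,1989,2164,2166,2168,2170,2172,2174,2176,2178,2180],[74,2125]),
(0,[],[]),
(0,[],[]),
(0,[],[]),
(0,[],[]),
(0,[],[]),
(0,[],[]),
(0,[],[]),
(0,[],[]),
(0,[],[]),
(4,[78,80,82,84,1210,1212,2200],[2101,2099,2097,2095]),
(0,[],[]),
(0,[],[]),
(0,[],[]),
(0,[],[]),
(0,[],[]),
(0,[],[]),
(8,[79,77,75,73,1993,1991,1989,1987,2210,2212,2214],[80,82,1747,1745,1743,1741,1710,1714]),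
(0,[],[]),
(0,[],[]),
(0,[],[]),
(0,[],[]),
(0,[],[]),
(0,[],[]),
(0,[],[]),
(0,[],[]),
(0,[],[]),
(0,[],[]),
(7,[2126,2120,2122,2183,2204,2206,2208,2218,2220,2222,2224,2226,2228,2230,2232,2234,2236],[80,82,84,86,119,117]),
(0,[],[]),
(3,[1214,1216,2240],[82,1747]),
(0,[],[]),
(0,[],[]),
(0,[],[]),
(0,[],[]),
(0,[],[]),
(0,[],[]),
(0,[],[]),
(0,[],[]),
(5,[1214,1216,2240,2244,2246,2248,2250,2252,2254,2256,2258],[81,79,77,75,2137,2135,2133,474,2081]),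
(0,[],[]),
(0,[],[]),
(0,[],[]),
(0,[],[]),
(0,[],[]),
(0,[],[]),
(0,[],[]),
(0,[],[]),
(0,[],[]),
(0,[],[]),
(0,[],[]),
(8,[1747,2243,2244,2246,2262,2264,2266,2268,2270,2272,2274,2276,2278,2280,2282],[84,86,119,1853]),
(0,[],[]),
(0,[],[]),
(0,[],[]),
(0,[],[]),
(0,[],[]),
(0,[],[]),
(0,[],[]),
(0,[],[]),
(0,[],[]),
(0,[],[]),
(0,[],[]),
(0,[],[]),
(5,[1210,1234,114,2239,2286,2288,2290,2292,2294,2296,2298,2300,2302,2304,2306,2308],[85,1747,2243,2244]),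
(3,[2246,2248],[2311,2309,2307]),
(0,[],[]),
(0,[],[]),
(0,[],[]),
(0,[],[]),
(0,[],[]),
(0,[],[]),
(0,[],[]),
(0,[],[]),
(0,[],[]),
(0,[],[]),
(0,[],[]),
(5,[87,1210,1234,113,2314,2316,2318,2320,2322,2324,2326,2328,2330,2332,2334],[88,155,153,508,1173]),
(0,[],[]),
(0,[],[]),
(0,[],[]),
(0,[],[]),
(0,[],[]),
(0,[],[]),
(0,[],[]),
(0,[],[]),
(0,[],[]),
(0,[],[]),
(7,[87,1210,1234,113,2314,2338,2340,2342,2344,2346,2348,2350,2352,2354,2356],[88,155,180,745,1891,1889,1887,1885]),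
(0,[],[]),
(0,[],[]),
(0,[],[]),
(0,[],[]),
(0,[],[]),
(0,[],[]),
(0,[],[]),
(0,[],[]),
(0,[],[]),
(0,[],[]),
(0,[],[]),
(5,[94,96,2054,1979,2370,2372,2374,2376,2378,2380],[93,7,5,14,16,305,703,704,869,867]),
(3,[510,512,514],[1173,2337,2335]),
(1,[2385],[]),
(1,[2387,2333],[]),
(1,[517,2388],[]),
(1,[2387,2334],[]),
(1,[2391],[]),
(1,[2395,2331],[]),
(0,[],[]),
(0,[],[]),
(0,[],[]),
(0,[],[]),
(0,[],[]),
(0,[],[]),
(0,[],[]),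
(0,[],[]),
(0,[],[]),
(0,[],[]),
(6,[96,98,100,2400,2402,2404,2406,2408,2410,2412,2414,2416],[120,471,469]),
(0,[],[]),
(0,[],[]),
(0,[],[]),
(0,[],[]),
(0,[],[]),
(0,[],[]),
(0,[],[]),
(0,[],[]),
(0,[],[]),
(0,[],[]),
(0,[],[]),
(0,[],[]),
(8,[95,358,360,362,364,2420,2422,2424,2426,2428,2430,2432,2434,2436,2438,2440,2442],[120,471]),
(0,[],[]),
(0,[],[]),
(0,[],[]),
(0,[],[]),
(0,[],[]),
(0,[],[]),
(0,[],[]),
(0,[],[]),
(0,[],[]),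
(0,[],[]),
(0,[],[]),
(5,[96,2054,1980,505,503,2446,2448,2450,2452,2454,2456,2458,2460,2462,2464,2466],[120,471,2445,2443]),
(0,[],[]),
(0,[],[]),
(0,[],[]),
(0,[],[]),
(0,[],[]),
(0,[],[]),
(0,[],[]),
(0,[],[]),
(0,[],[]),
(0,[],[]),
(7,[96,2054,1980,505,503,501,499,1512,1514,2470,2472,2474,2476,2478,2480,2482,2484,2486,2488],[120,471,469,2419]),
(0,[],[]),
(0,[],[]),
(0,[],[]),
(0,[],[])]
theorem ok4 : data.stepsOK st4 1000 = true := by decide +kernel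
def st5 : List Step := [
(0,[],[]),
(8,[97,95,93,8,60,62,64,567,2019,2017,2015,2102,2104,2494,2496,2498,2500],[98,2398]),
(0,[],[]),
(0,[],[]),
(0,[],[]),
(0,[],[]),
(0,[],[]),
(0,[],[]),
(0,[],[]),
(0,[],[]),
(0,[],[]),
(0,[],[]),
(0,[],[]),
(0,[],[]),
(3,[100,102,104],[2398,2503]),
(3,[122,124,126],[471,2445]),
(3,[362,2504],[485,555,553]),
(3,[1994],[466,2419,2491,2489]),
(3,[2446],[502,529,527,525]),
(0,[],[]),
(0,[],[]),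
(0,[],[]),
(0,[],[]),
(0,[],[]),
(0,[],[]),
(0,[],[]),
(0,[],[]),
(0,[],[]),
(0,[],[]),
(7,[100,102,104,106,108,1909,2538,2540,2542,2544,2546,2548,2550,2552,2554,2556],[99,97,120,471,2445,2531,128]),
(5,[134,136,138,140,142,1769,1767,1765,1892,1894,1896,1898],[133,131,2559,2557,2555,2553,2551,2549,2547]),
(1,[2561],[]),
(1,[2563,2545],[]),
(1,[1901,2564],[]),
(1,[2563,2546],[]),
(1,[2567],[]),
(1,[2571,2543],[]),
(0,[],[]),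
(0,[],[]),
(0,[],[]),
(0,[],[]),
(0,[],[]),
(0,[],[]),
(6,[2528,2501,2499,2497,2495,2105,2130,2037,2578,2580,2582,2584],[106,2574,2576]),
(0,[],[]),
(0,[],[]),
(0,[],[]),
(0,[],[]),
(0,[],[]),
(0,[],[]),
(0,[],[]),
(0,[],[]),
(0,[],[]),
(0,[],[]),
(0,[],[]),
(7,[2528,2502,2399,99,2054,1979,2370,2372,2588,2590,2592,2594,2596,2598,2600,2602,2604,2606,2608],[106,2574,2576,2587]),
(0,[],[]),
(0,[],[]),
(0,[],[]),
(0,[],[]),
(0,[],[]),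
(0,[],[]),
(4,[2314,2338,2616,2618,2620,2622],[112,114,2239,2237,2235]),
(0,[],[]),
(0,[],[]),
(0,[],[]),
(6,[2314,2338,2340,2612,2614,2626,2628,2630],[112,1235,1212,2200,2202,2093,2091]),
(0,[],[]),
(0,[],[]),
(4,[118,88,155,180,182,208,2634,2636],[1853,2285,2283]),
(0,[],[]),
(0,[],[]),
(0,[],[]),
(0,[],[]),
(0,[],[]),
(0,[],[]),
(5,[122,124,126,128,130,2640,2642,2644,2646,2648,2650],[121,95,358,360,485,555,553,551,549]),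
(0,[],[]),
(0,[],[]),
(0,[],[]),
(0,[],[]),
(0,[],[]),
(0,[],[]),
(0,[],[]),
(4,[124,2654,2656,2658,2660,2662,2664,2666],[372,374,376]),
(0,[],[]),
(0,[],[]),
(0,[],[]),
(0,[],[]),
(0,[],[]),
(0,[],[]),
(0,[],[]),
(0,[],[]),
(0,[],[]),
(0,[],[]),
(0,[],[]),
(0,[],[]),
(4,[2530,2443,2469,2684,2686,2688,2690,2692],[128,130,132]),
(0,[],[]),
(0,[],[]),
(0,[],[]),
(0,[],[]),
(0,[],[]),
(0,[],[]),
(0,[],[]),
(0,[],[]),
(0,[],[]),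
(0,[],[]),
(8,[127,125,372,374,376,378,380,2696,2698,2700,2702,2704,2706,2708,2710,2712,2714],[128,2559]),
(0,[],[]),
(0,[],[]),
(3,[130,2640,2720],[2559,2717]),
(0,[],[]),
(0,[],[]),
(0,[],[]),
(0,[],[]),
(0,[],[]),
(0,[],[]),
(0,[],[]),
(0,[],[]),
(0,[],[]),
(0,[],[]),
(0,[],[]),
(0,[],[]),
(0,[],[]),
(0,[],[]),
(0,[],[]),
(8,[131,2559,2557,2670,2672,2730,2732,2734,2736,2738,2740,2742,2744,2746,2748,2750,2752],[132,2695]),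
(0,[],[]),
(0,[],[]),
(0,[],[]),
(0,[],[]),
(0,[],[]),
(0,[],[]),
(0,[],[]),
(0,[],[]),
(0,[],[]),
(0,[],[]),
(0,[],[]),
(5,[2640,2720,2722,2715,2713,2756,2758,2760,2762,2764,2766,2768,2770,2772,2774,2776],[132,2695,2755,2753]),
(3,[134,136,138],[2695,2755]),
(0,[],[]),
(0,[],[]),
(0,[],[]),
(0,[],[]),
(3,[2782],[2750,2779,2777,2775]),
(0,[],[]),
(0,[],[]),
(4,[2780,2753,2779,2794],[140,142,144,1797,1798,1800,1816]),
(0,[],[]),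
(0,[],[]),
(0,[],[]),
(0,[],[]),
(0,[],[]),
(0,[],[]),
(0,[],[]),
(0,[],[]),
(8,[139,137,2674,2676,2678,2680,2682,2798,2800,2802,2804,2806,2808,2810,2812],[140,1209,1789,1787]),
(0,[],[]),
(0,[],[]),
(0,[],[]),
(0,[],[]),
(0,[],[]),
(5,[2780,2754,2694,133,2640,2720,2724,2726,2728,2816,2818,2820,2822,2824],[140,1209,1789,1787,1785,1783]),
(0,[],[]),
(0,[],[]),
(7,[2780,2754,2694,133,2640,2642,2644,2646,2648,2650,2652,547,2828,2830],[140,1209,1207,1205,1203,1201,1199,1197,538]),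
(0,[],[]),
(0,[],[]),
(0,[],[]),
(0,[],[]),
(0,[],[]),
(0,[],[]),
(0,[],[]),
(0,[],[]),
(0,[],[]),
(6,[1769,1767,1765,1763,2836,2838,2840,2842,2844,2846,2848,2850],[144,1797,1798]),
(0,[],[]),
(3,[1782,1784,2815,2854],[2827]),
(0,[],[]),
(0,[],[]),
(0,[],[]),
(0,[],[]),
(0,[],[]),
(4,[152,180,745,743,2860,2862,2864,2866],[508,510,1118]),
(0,[],[]),
(0,[],[]),
(0,[],[]),
(0,[],[]),
(0,[],[]),
(0,[],[]),
(6,[152,180,182,208,210,1869,2870,2872,2874,2876,2878,2880],[508,1173,1171]),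
(0,[],[]),
(0,[],[]),
(0,[],[]),
(8,[151,32,1,2,14,34,36,253,1283,1281,1279,1388,1390,2884,2886,2888],[508,1173,2337]),
(0,[],[]),
(0,[],[]),
(0,[],[]),
(0,[],[]),
(0,[],[]),
(0,[],[]),
(0,[],[]),
(0,[],[]),
(0,[],[]),
(8,[153,151,31,156,158,160,162,2892,2894,2896,2898,2900,2902,2904,2906,2908],[180,745,1891]),
(0,[],[]),
(0,[],[]),
(0,[],[]),
(0,[],[]),
(4,[530,1022,1003,1001,2914,2916,2918],[158,160,162,2892]),
(0,[],[]),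
(0,[],[]),
(0,[],[]),
(0,[],[]),
(0,[],[]),
(0,[],[]),
(0,[],[]),
(6,[530,1022,1132,1158,1160,2922,2924,2926,2928,2930,2932,2934],[158,388,1162]),
(0,[],[]),
(0,[],[]),
(0,[],[]),
(0,[],[]),
(0,[],[]),
(0,[],[]),
(5,[160,2362,2364,2366,2368,2938,2940,2942,2944,2946,2948],[159,157,29,27,959,1033,1031,1090,1233]),
(0,[],[]),
(0,[],[]),
(0,[],[]),
(0,[],[]),
(0,[],[]),
(0,[],[]),
(0,[],[]),
(4,[2362,2952,2954,2956,2958,2960,2962,2964],[162,164,166]),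
(0,[],[]),
(0,[],[]),
(0,[],[]),
(0,[],[]),
(0,[],[]),
(0,[],[]),
(0,[],[]),
(0,[],[]),
(0,[],[]),
(4,[2972,2974,2976,2978,2980,2982,2984],[166,168,170,699]),
(0,[],[]),
(0,[],[]),
(0,[],[]),
(0,[],[]),
(0,[],[]),
(0,[],[])]
theorem ok5 : data.stepsOK st5 1250 = true := by decide +kernel
def st6 : List Step := [
(0,[],[]),
(0,[],[]),
(0,[],[]),
(0,[],[]),
(0,[],[]),
(0,[],[]),
(8,[165,2892,2921,2919,2917,2988,2990,2992,2994,2996,2998,3000,3002,3004,3006,3008,3010],[166,2967]),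
(0,[],[]),
(0,[],[]),
(3,[994,996,998,2914,2988],[]),
(0,[],[]),
(0,[],[]),
(3,[168,3020,3022],[2967,3013]),
(0,[],[]),
(0,[],[]),
(0,[],[]),
(0,[],[]),
(0,[],[]),
(0,[],[]),
(0,[],[]),
(0,[],[]),
(0,[],[]),
(0,[],[]),
(8,[169,2967,2965,2963,2961,3026,3028,3030,3032,3034,3036,3038,3040,3042,3044],[170,699,697,695]),
(0,[],[]),
(0,[],[]),
(0,[],[]),
(0,[],[]),
(0,[],[]),
(0,[],[]),
(0,[],[]),
(0,[],[]),
(0,[],[]),
(0,[],[]),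
(5,[3020,3022,3024,3011,3009,3048,3050,3052,3054,3056,3058,3060,3062,3064,3066],[170,699,697,695,693]),
(0,[],[]),
(0,[],[]),
(0,[],[]),
(0,[],[]),
(0,[],[]),
(0,[],[]),
(0,[],[]),
(0,[],[]),
(0,[],[]),
(0,[],[]),
(0,[],[]),
(0,[],[]),
(0,[],[]),
(0,[],[]),
(0,[],[]),
(0,[],[]),
(0,[],[]),
(8,[173,699,2987,2985,2983,3084,3086,3088,3090,3092,3094,3096,3098,3100,3102],[174,237,235,233]),
(0,[],[]),
(0,[],[]),
(0,[],[]),
(0,[],[]),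
(0,[],[]),
(0,[],[]),
(0,[],[]),
(0,[],[]),
(0,[],[]),
(5,[558,2082,2128,695,3047,3106,3108,3110,3112,3114,3116,3118,3120,3122],[174,237,235,233,231,721]),
(3,[692,3047,3106],[3069,3067]),
(3,[3070,3072],[2086,2088,2633]),
(0,[],[]),
(0,[],[]),
(0,[],[]),
(0,[],[]),
(0,[],[]),
(0,[],[]),
(5,[276,410,556,233,3105,3130,3132,3134,3136,3138,3140],[178,11,9,92,358,507,1981,1979,1977]),
(0,[],[]),
(0,[],[]),
(0,[],[]),
(0,[],[]),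
(0,[],[]),
(0,[],[]),
(0,[],[]),
(0,[],[]),
(7,[276,410,556,233,3105,3103,3101,3144,3146,3148,3150,3152,3154,3156,3158],[178,11,60,207,205,203,201,199]),
(0,[],[]),
(0,[],[]),
(0,[],[]),
(0,[],[]),
(0,[],[]),
(0,[],[]),
(5,[182,184,1912,1887,3162,3164,3166,3168,3170,3172],[181,153,151,31,29,929,1015,534,1117,1115]),
(0,[],[]),
(0,[],[]),
(0,[],[]),
(0,[],[]),
(0,[],[]),
(0,[],[]),
(0,[],[]),
(0,[],[]),
(0,[],[]),
(0,[],[]),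
(7,[182,184,1912,1887,3162,3176,3178,3180,3182,3184,3186,3188,3190,3192,3194],[181,153,508,1173,2337,2393,516,2396]),
(0,[],[]),
(0,[],[]),
(0,[],[]),
(0,[],[]),
(0,[],[]),
(0,[],[]),
(0,[],[]),
(0,[],[]),
(0,[],[]),
(0,[],[]),
(6,[184,186,188,3200,3202,3204,3206,3208,3210,3212,3214,3216],[208,2634,2636]),
(0,[],[]),
(0,[],[]),
(0,[],[]),
(0,[],[]),
(0,[],[]),
(0,[],[]),
(0,[],[]),
(0,[],[]),
(0,[],[]),
(0,[],[]),
(0,[],[]),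
(0,[],[]),
(8,[183,745,743,2860,2862,3220,3222,3224,3226,3228,3230,3232,3234,3236,3238,3240,3242],[208,2634]),
(0,[],[]),
(0,[],[]),
(0,[],[]),
(0,[],[]),
(0,[],[]),
(0,[],[]),
(0,[],[]),
(0,[],[]),
(0,[],[]),
(0,[],[]),
(0,[],[]),
(5,[184,1912,1888,2911,2909,3246,3248,3250,3252,3254,3256,3258,3260,3262,3264,3266],[208,2634,3245,3243]),
(0,[],[]),
(0,[],[]),
(0,[],[]),
(0,[],[]),
(0,[],[]),
(0,[],[]),
(0,[],[]),
(0,[],[]),
(0,[],[]),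
(0,[],[]),
(7,[184,1912,1888,2911,2909,2907,2905,3014,3016,3270,3272,3274,3276,3278,3280,3282,3284,3286,3288],[208,2634,2636,3219]),
(3,[210,212,214],[2634,3245]),
(3,[230,3105,3130],[721,3125]),
(3,[1976,2370,2372,2588],[3143]),
(3,[],[2280,2639,3219,3291,3289]),
(0,[],[]),
(0,[],[]),
(0,[],[]),
(0,[],[]),
(0,[],[]),
(8,[185,183,181,154,89,87,85,1747,2243,2244,2246,2248,2250,3302,3304,3306,3308],[186,3198]),
(0,[],[]),
(0,[],[]),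
(0,[],[]),
(0,[],[]),
(0,[],[]),
(0,[],[]),
(0,[],[]),
(0,[],[]),
(0,[],[]),
(0,[],[]),
(0,[],[]),
(5,[1912,1888,1890,743,2860,3312,3314,3316,3318,3320,3322,3324,3326,3328,3330,3332],[186,3198,3311,3309]),
(3,[188,190,192],[3198,3311]),
(0,[],[]),
(0,[],[]),
(0,[],[]),
(0,[],[]),
(0,[],[]),
(0,[],[]),
(0,[],[]),
(0,[],[]),
(0,[],[]),
(0,[],[]),
(7,[188,190,192,194,196,3161,3338,3340,3342,3344,3346,3348,3350,3352,3354,3356],[187,185,208,2634,3245,3293,216]),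
(0,[],[]),
(3,[736,738,740,2860,3312],[]),
(3,[3360],[3306,3335,3333,3331]),
(0,[],[]),
(0,[],[]),
(0,[],[]),
(0,[],[]),
(0,[],[]),
(0,[],[]),
(0,[],[]),
(0,[],[]),
(6,[3336,3309,3307,3305,3303,2251,2312,2305,3374,3376,3378,3380],[194,3366,3368]),
(0,[],[]),
(0,[],[]),
(0,[],[]),
(0,[],[]),
(0,[],[]),
(0,[],[]),
(0,[],[]),
(0,[],[]),
(0,[],[]),
(0,[],[]),
(8,[193,191,3200,3202,3204,3206,3208,3384,3386,3388,3390,3392,3394,3396,3398,3400,3402],[194,3366]),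
(0,[],[]),
(0,[],[]),
(0,[],[]),
(0,[],[]),
(0,[],[]),
(0,[],[]),
(0,[],[]),
(0,[],[]),
(0,[],[]),
(0,[],[]),
(0,[],[]),
(7,[3336,3310,3199,187,1912,1887,3162,3164,3406,3408,3410,3412,3414,3416,3418,3420,3422,3424,3426],[194,3366,3368,3383]),
(3,[196,198,1932,1934],[3366,3405]),
(1,[3431],[]),
(1,[3433,3404],[]),
(3,[1882,1884,3162,3164,3406],[]),
(0,[],[]),
(0,[],[]),
(0,[],[]),
(0,[],[]),
(0,[],[]),
(4,[1932,1954,3440,3442,3444,3446],[200,202,601,625,2163]),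
(0,[],[]),
(8,[199,197,195,3336,3309,3307,3305,3450],[200,357,307,64,66,68,472,474,2081,2261,2259]),
(0,[],[]),
(0,[],[]),
(0,[],[]),
(0,[],[]),
(0,[],[]),
(0,[],[]),
(0,[],[]),
(5,[1932,1934,3434,3368,3370,3454,3456,3458,3460,3462,3464,3466],[200,357,307,64,567,2019,2053,334]),
(0,[],[]),
(0,[],[]),
(0,[],[]),
(0,[],[]),
(0,[],[]),
(0,[],[]),
(0,[],[]),
(0,[],[]),
(0,[],[]),
(0,[],[]),
(0,[],[]),
(0,[],[]),
(7,[1932,1934,3434,3368,3370,3372,3438,3470,3472,3474,3476,3478,3480,3482,3484,3486,3488,3490,3492],[200,357,308,1982]),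
(0,[],[]),
(0,[],[])]
theorem ok6 : data.stepsOK st6 1500 = true := by decide +kernel
def st7 : List Step := [
(0,[],[]),
(0,[],[]),
(4,[204,460,581,579,3496,3498,3500,3502],[601,599,597]),
(3,[310,312,314],[1982,3495,3493]),
(1,[3507],[]),
(1,[3509,3491],[]),
(1,[317,3510],[]),
(1,[3513],[]),
(1,[3515,3489],[]),
(3,[3370,3454],[3383,3429,3427]),
(0,[],[]),
(0,[],[]),
(0,[],[]),
(0,[],[]),
(0,[],[]),
(0,[],[]),
(5,[210,212,214,216,218,3520,3522,3524,3526,3528,3530],[209,183,745,743,741,739,737,735,733]),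
(0,[],[]),
(0,[],[]),
(0,[],[]),
(0,[],[]),
(0,[],[]),
(0,[],[]),
(0,[],[]),
(0,[],[]),
(0,[],[]),
(0,[],[]),
(0,[],[]),
(0,[],[]),
(4,[3292,3243,3269,3548,3550,3552,3554,3556],[216,218,220]),
(0,[],[]),
(0,[],[]),
(0,[],[]),
(0,[],[]),
(0,[],[]),
(0,[],[]),
(0,[],[]),
(0,[],[]),
(0,[],[]),
(0,[],[]),
(8,[215,213,1869,2870,2872,2874,2876,3560,3562,3564,3566,3568,3570,3572,3574,3576,3578],[216,3359]),
(0,[],[]),
(0,[],[]),
(0,[],[]),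
(0,[],[]),
(5,[3292,3244,2635,209,184,1912,1887,3162,3164,3406,3408,3410,3582,3584,3586,3588],[216,3359,3581,3579]),
(0,[],[]),
(3,[218,3520,3592],[3359,3581]),
(0,[],[]),
(0,[],[]),
(0,[],[]),
(0,[],[]),
(0,[],[]),
(0,[],[]),
(0,[],[]),
(0,[],[]),
(0,[],[]),
(0,[],[]),
(0,[],[]),
(0,[],[]),
(0,[],[]),
(0,[],[]),
(0,[],[]),
(0,[],[]),
(8,[219,3359,3357,3534,3536,3604,3606,3608,3610,3612,3614,3616,3618,3620,3622,3624,3626],[220,3559]),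
(0,[],[]),
(3,[222,224,226],[3559,3629]),
(3,[3630],[3576,3591,3589,3587]),
(0,[],[]),
(0,[],[]),
(0,[],[]),
(0,[],[]),
(0,[],[]),
(0,[],[]),
(0,[],[]),
(0,[],[]),
(0,[],[]),
(0,[],[]),
(8,[227,225,3538,3540,3542,3544,3546,3640,3642,3644,3646,3648,3650,3652,3654],[228,721,3125,3123]),
(0,[],[]),
(0,[],[]),
(0,[],[]),
(0,[],[]),
(0,[],[]),
(5,[3632,3628,3558,221,3520,3592,3596,3598,3600,3658,3660,3662,3664,3666],[228,721,3125,3123,3121,3119]),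
(0,[],[]),
(0,[],[]),
(7,[3632,3628,3558,221,3520,3522,3524,3526,3528,3530,3532,731,3670,3672],[228,721,719,717,715,713,711,709,722]),
(0,[],[]),
(0,[],[]),
(0,[],[]),
(0,[],[]),
(0,[],[]),
(0,[],[]),
(0,[],[]),
(0,[],[]),
(6,[3105,3103,3101,3099,3676,3678,3680,3682,3684,3686,3688,3690],[232,557,412]),
(0,[],[]),
(0,[],[]),
(0,[],[]),
(0,[],[]),
(0,[],[]),
(0,[],[]),
(8,[231,721,719,3636,3638,3694,3696,3698,3700,3702,3704],[232,557,411,278,280,282,568,570]),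
(0,[],[]),
(0,[],[]),
(0,[],[]),
(0,[],[]),
(0,[],[]),
(0,[],[]),
(0,[],[]),
(0,[],[]),
(0,[],[]),
(0,[],[]),
(5,[3105,3130,3294,3123,3657,3708,3710,3712,3714,3716,3718,3720,3722,3724,3726],[232,557,411,278,647]),
(3,[280,434,436],[647,3729,3727]),
(1,[3731],[]),
(1,[3733,3725],[]),
(1,[439,3734],[]),
(1,[3733,3726],[]),
(1,[3737],[]),
(1,[3741,3723],[]),
(0,[],[]),
(0,[],[]),
(0,[],[]),
(0,[],[]),
(0,[],[]),
(0,[],[]),
(0,[],[]),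
(0,[],[]),
(0,[],[]),
(0,[],[]),
(0,[],[]),
(0,[],[]),
(7,[254,668,2056,1951,2912,3748,3750,3752,3754,3756,3758,3760,3762,3764,3766],[239,5,14,16,305,703,704,869]),
(0,[],[]),
(0,[],[]),
(0,[],[]),
(0,[],[]),
(0,[],[]),
(0,[],[]),
(0,[],[]),
(0,[],[]),
(0,[],[]),
(0,[],[]),
(8,[409,1953,1951,2912,3748,3750,3770,3772,3774,3776,3778,3780,3782,3784,3786,3788],[242,387,459]),
(0,[],[]),
(0,[],[]),
(3,[568,3744,3746],[284,286]),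
(0,[],[]),
(0,[],[]),
(0,[],[]),
(0,[],[]),
(0,[],[]),
(0,[],[]),
(0,[],[]),
(0,[],[]),
(0,[],[]),
(0,[],[]),
(0,[],[]),
(0,[],[]),
(0,[],[]),
(7,[244,1368,1412,455,3802,3804,3806,3808,3810,3812,3814,3816,3818,3820,3822],[243,409,407,433,431,429,427,425]),
(0,[],[]),
(0,[],[]),
(0,[],[]),
(0,[],[]),
(0,[],[]),
(4,[1368,1370,1372,3826,3828,3830,3832,3834],[246,3798,3800]),
(0,[],[]),
(0,[],[]),
(0,[],[]),
(0,[],[]),
(0,[],[]),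
(0,[],[]),
(0,[],[]),
(0,[],[]),
(0,[],[]),
(7,[1368,1412,456,3791,3789,3787,3785,3842,3844,3846,3848,3850,3852,3854],[246,248,250,1283,1335,629,1350,1352,1354]),
(3,[3798],[248,1263,1333,1331]),
(3,[1356,1630],[3857,3855,3853]),
(0,[],[]),
(0,[],[]),
(0,[],[]),
(0,[],[]),
(0,[],[]),
(0,[],[]),
(0,[],[]),
(0,[],[]),
(0,[],[]),
(0,[],[]),
(8,[1263,1333,3862,3864,3866,3868,3870,3872,3874,3876,3878,3880],[250,1283,1335,630,632,634,636]),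
(0,[],[]),
(0,[],[]),
(0,[],[]),
(0,[],[]),
(0,[],[]),
(0,[],[]),
(0,[],[]),
(0,[],[]),
(0,[],[]),
(0,[],[]),
(0,[],[]),
(0,[],[]),
(5,[249,3798,3858,1329,3884,3886,3888,3890,3892,3894,3896,3898,3900,3902,3904,3906],[250,1283,1335,630]),
(0,[],[]),
(3,[632,1336],[3909,3907,3905]),
(0,[],[]),
(0,[],[]),
(0,[],[]),
(0,[],[]),
(0,[],[]),
(0,[],[]),
(0,[],[]),
(6,[668,670,672,3792,3794,3914,3916,3918,3920,3922,3924,3926],[256,371,369]),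
(0,[],[]),
(0,[],[]),
(0,[],[]),
(0,[],[]),
(0,[],[]),
(0,[],[]),
(0,[],[]),
(0,[],[]),
(0,[],[]),
(8,[255,240,242,244,246,3798,3800,3837,3930,3932,3934,3936,3938,3940,3942,3944,3946],[256,371]),
(0,[],[]),
(0,[],[]),
(0,[],[]),
(0,[],[]),
(0,[],[]),
(0,[],[]),
(0,[],[]),
(0,[],[]),
(0,[],[]),
(0,[],[]),
(0,[],[]),
(5,[668,2056,1952,407,405,3950,3952,3954,3956,3958,3960,3962,3964,3966,3968,3970],[256,371,3949,3947]),
(0,[],[]),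
(0,[],[]),
(0,[],[]),
(0,[],[]),
(0,[],[]),
(0,[],[]),
(0,[],[]),
(0,[],[]),
(0,[],[]),
(0,[],[]),
(7,[668,2056,1952,407,405,403,401,2968,2970,3974,3976,3978,3980,3982,3984,3986,3988,3990,3992],[256,371,369,3929]),
(3,[258,674,676],[371,3949]),
(0,[],[])]
theorem ok7 : data.stepsOK st7 1750 = true := by decide +kernel
def st8 : List Step := [
(0,[],[]),
(0,[],[]),
(0,[],[]),
(0,[],[]),
(0,[],[]),
(5,[258,674,676,678,680,3998,4000,4002,4004,4006,4008],[257,255,240,242,387,459,457,455,453]),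
(0,[],[]),
(0,[],[]),
(0,[],[]),
(0,[],[]),
(0,[],[]),
(0,[],[]),
(0,[],[]),
(4,[674,4012,4014,4016,4018,4020,4022,4024],[260,262,264]),
(0,[],[]),
(0,[],[]),
(0,[],[]),
(0,[],[]),
(0,[],[]),
(0,[],[]),
(0,[],[]),
(8,[259,371,369,367,365,2504,2506,4028,4030,4032,4034,4036,4038,4040],[260,582,584,586,588]),
(0,[],[]),
(0,[],[]),
(3,[2420,2516,2518],[366,3929,3995]),
(1,[4049],[]),
(1,[4051,3994],[]),
(1,[4051,3993],[]),
(1,[2518,4054],[]),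
(1,[4057],[]),
(1,[4059,3991],[]),
(3,[2508,2510,2512],[4028,4030]),
(3,[4044],[3944,3973,3971,3969]),
(0,[],[]),
(0,[],[]),
(0,[],[]),
(3,[2044,2046,4066],[594,3505]),
(0,[],[]),
(0,[],[]),
(0,[],[]),
(0,[],[]),
(4,[4074,4076,4078,4080],[268,270,272,355,767,765,763]),
(0,[],[]),
(0,[],[]),
(0,[],[]),
(0,[],[]),
(0,[],[]),
(0,[],[]),
(0,[],[]),
(0,[],[]),
(0,[],[]),
(0,[],[]),
(8,[267,4027,4025,4023,4021,4084,4086,4088,4090,4092,4094,4096,4098,4100,4102],[268,819,817,815]),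
(0,[],[]),
(3,[270,930,4106],[819,817]),
(0,[],[]),
(0,[],[]),
(4,[930,932,4110,4112],[272,274,19,305,303,301,299]),
(0,[],[]),
(0,[],[]),
(0,[],[]),
(0,[],[]),
(0,[],[]),
(0,[],[]),
(0,[],[]),
(0,[],[]),
(0,[],[]),
(5,[930,4106,4108,815,4105,4116,4118,4120,4122,4124,4126,4128,4130,4132],[272,355,353,351,349,1349]),
(0,[],[]),
(0,[],[]),
(0,[],[]),
(0,[],[]),
(0,[],[]),
(0,[],[]),
(0,[],[]),
(0,[],[]),
(7,[930,4106,4108,815,4105,4103,4101,4136,4138,4140,4142,4144,4146,4148,4150],[272,355,767,789,787,785,783,781]),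
(3,[348,844,846],[1349,4135]),
(0,[],[]),
(0,[],[]),
(0,[],[]),
(4,[410,412,3693,3691,4156,4158,4160],[278,280,282,284]),
(0,[],[]),
(0,[],[]),
(0,[],[]),
(0,[],[]),
(0,[],[]),
(0,[],[]),
(0,[],[]),
(0,[],[]),
(0,[],[]),
(8,[277,177,175,558,560,3080,3082,4164,4166,4168,4170,4172,4174,4176,4178,4180],[278,647,3729]),
(0,[],[]),
(0,[],[]),
(0,[],[]),
(0,[],[]),
(0,[],[]),
(0,[],[]),
(0,[],[]),
(0,[],[]),
(0,[],[]),
(0,[],[]),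
(0,[],[]),
(5,[410,556,234,667,665,4184,4186,4188,4190,4192,4194,4196,4198,4200,4202,4204],[278,647,3729,4183]),
(0,[],[]),
(0,[],[]),
(0,[],[]),
(0,[],[]),
(0,[],[]),
(5,[280,434,436,438,440,4208,4210,4212,4214,4216],[279,277,177,175,173,699,697,695,693,3069]),
(0,[],[]),
(0,[],[]),
(0,[],[]),
(0,[],[]),
(0,[],[]),
(0,[],[]),
(0,[],[]),
(0,[],[]),
(0,[],[]),
(0,[],[]),
(0,[],[]),
(5,[434,436,3738,4183,4181,4220,4222,4224,4226,4228,4230,4232,4234,4236,4238,4240],[282,284,286,288]),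
(3,[290,292],[4243,4241,4239]),
(0,[],[]),
(0,[],[]),
(0,[],[]),
(0,[],[]),
(0,[],[]),
(0,[],[]),
(0,[],[]),
(0,[],[]),
(0,[],[]),
(6,[287,4163,4161,4159,4246,4248,4250,4252,4254,4256,4258,4260,4262],[288,4243]),
(0,[],[]),
(0,[],[]),
(0,[],[]),
(0,[],[]),
(0,[],[]),
(0,[],[]),
(0,[],[]),
(0,[],[]),
(0,[],[]),
(0,[],[]),
(0,[],[]),
(0,[],[]),
(0,[],[]),
(0,[],[]),
(0,[],[]),
(7,[4244,4238,4240,4265,4270,4272,4274,4276,4278,4280,4282,4284,4286,4288,4290,4292,4294],[294,296,298,300,329,327]),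
(0,[],[]),
(3,[1308,1310,4298],[296,4115]),
(0,[],[]),
(0,[],[]),
(0,[],[]),
(0,[],[]),
(0,[],[]),
(0,[],[]),
(5,[1308,1310,4298,4302,4304,4306,4308,4310,4312],[295,293,291,289,3797,3747,3745,570,3707,3705,3703]),
(0,[],[]),
(0,[],[]),
(0,[],[]),
(0,[],[]),
(0,[],[]),
(0,[],[]),
(0,[],[]),
(0,[],[]),
(0,[],[]),
(0,[],[]),
(0,[],[]),
(8,[4115,4301,4302,4304,4316,4318,4320,4322,4324,4326,4328,4330,4332,4334,4336],[298,300,329,843]),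
(3,[],[3698,3700,4315,4313,4311]),
(0,[],[]),
(0,[],[]),
(0,[],[]),
(0,[],[]),
(0,[],[]),
(0,[],[]),
(0,[],[]),
(0,[],[]),
(0,[],[]),
(0,[],[]),
(0,[],[]),
(0,[],[]),
(0,[],[]),
(5,[301,1284,1414,323,4346,4348,4350,4352,4354,4356,4358,4360,4362,4364,4366],[302,703,701,604,1075]),
(3,[318,320,4346,4348],[3516]),
(3,[606,608,610],[1075,4369,4367]),
(1,[4373],[]),
(1,[4375,4365],[]),
(1,[613,4376],[]),
(1,[4375,4366],[]),
(1,[4379],[]),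
(1,[4383,4363],[]),
(0,[],[]),
(0,[],[]),
(0,[],[]),
(0,[],[]),
(0,[],[]),
(0,[],[]),
(5,[304,17,34,36,38,626,1350,1366,3910,4386,4388,4390,4392,4394,4396],[303,329,327,4297,4295]),
(0,[],[]),
(0,[],[]),
(0,[],[]),
(0,[],[]),
(0,[],[]),
(0,[],[]),
(0,[],[]),
(0,[],[]),
(0,[],[]),
(0,[],[]),
(7,[356,202,204,460,462,464,1994,2534,2488,4400,4402,4404,4406,4408,4410,4412,4414,4416,4418],[308,1982,1984,2210]),
(0,[],[]),
(0,[],[]),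
(0,[],[]),
(0,[],[]),
(0,[],[]),
(0,[],[]),
(0,[],[]),
(0,[],[]),
(0,[],[]),
(7,[310,312,314,316,318,891,4422,4424,4426,4428,4430,4432,4434,4436,4438],[309,307,64,567,2019,2053,334,3469]),
(3,[1986,2164],[2210,4421,4419]),
(0,[],[]),
(0,[],[]),
(0,[],[]),
(0,[],[]),
(0,[],[]),
(0,[],[]),
(3,[614,616,4452,4454],[4384,4361]),
(1,[4456],[]),
(1,[4459,4455],[]),
(3,[1956,1958,1960],[3440,4448]),
(0,[],[]),
(0,[],[]),
(0,[],[]),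
(0,[],[]),
(0,[],[]),
(0,[],[]),
(0,[],[]),
(0,[],[]),
(0,[],[]),
(0,[],[]),
(0,[],[]),
(0,[],[]),
(0,[],[]),
(7,[4346,4348,4370,3487,4444,4446,4464,4466,4468,4470,4472,4474,4476,4478,4480,4482,4484,4486,4488],[322,1415,1286,4268]),
(0,[],[]),
(0,[],[]),
(0,[],[]),
(0,[],[])]
theorem ok8 : data.stepsOK st8 2000 = true := by decide +kernel
def st9 : List Step := [
(0,[],[]),
(0,[],[]),
(0,[],[]),
(0,[],[]),
(0,[],[]),
(0,[],[]),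
(0,[],[]),
(0,[],[]),
(7,[328,301,1284,1286,1288,4342,4344,4492,4494,4496,4498,4500,4502,4504,4506,4508,4510,4512,4514],[843,841,839,837]),
(3,[1288,1290,1292],[4268,4491,4489]),
(1,[4519],[]),
(1,[4521,4487],[]),
(1,[1295,4522],[]),
(1,[4525],[]),
(1,[4527,4485],[]),
(0,[],[]),
(0,[],[]),
(0,[],[]),
(0,[],[]),
(0,[],[]),
(0,[],[]),
(0,[],[]),
(0,[],[]),
(0,[],[]),
(0,[],[]),
(0,[],[]),
(0,[],[]),
(4,[2052,2017,2043,4544,4546,4548,4550,4552],[334,336,338]),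
(0,[],[]),
(0,[],[]),
(0,[],[]),
(0,[],[]),
(0,[],[]),
(0,[],[]),
(0,[],[]),
(0,[],[]),
(0,[],[]),
(0,[],[]),
(3,[480,2186,2188],[4556,4558]),
(0,[],[]),
(0,[],[]),
(0,[],[]),
(0,[],[]),
(0,[],[]),
(0,[],[]),
(0,[],[]),
(0,[],[]),
(0,[],[]),
(0,[],[]),
(0,[],[]),
(0,[],[]),
(0,[],[]),
(8,[337,3469,4441,4530,4532,4580,4582,4584,4586,4588,4590,4592,4594,4596,4598,4600,4602],[338,4555]),
(0,[],[]),
(0,[],[]),
(3,[340,342,344],[4555,4605]),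
(0,[],[]),
(0,[],[]),
(0,[],[]),
(0,[],[]),
(0,[],[]),
(0,[],[]),
(0,[],[]),
(0,[],[]),
(0,[],[]),
(0,[],[]),
(4,[344,346,1349,1347,4624,4626,4628,4630],[4612,4618,4620]),
(0,[],[]),
(0,[],[]),
(6,[344,346,348,350,352,767,765,763,761,759,4634,4636],[4612,4614,4616]),
(0,[],[]),
(0,[],[]),
(0,[],[]),
(0,[],[]),
(0,[],[]),
(0,[],[]),
(0,[],[]),
(0,[],[]),
(0,[],[]),
(0,[],[]),
(8,[343,341,339,2060,2062,2064,4578,4640,4642,4644,4646,4648,4650,4652,4654,4656,4658],[4612,4614]),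
(0,[],[]),
(0,[],[]),
(0,[],[]),
(0,[],[]),
(0,[],[]),
(0,[],[]),
(0,[],[]),
(0,[],[]),
(0,[],[]),
(0,[],[]),
(0,[],[]),
(0,[],[]),
(7,[344,4610,4604,4553,4551,4549,4622,4662,4664,4666,4668,4670,4672,4674,4676,4678,4680,4682,4684],[4612,4614,4616,4639]),
(0,[],[]),
(0,[],[]),
(0,[],[]),
(0,[],[]),
(0,[],[]),
(0,[],[]),
(0,[],[]),
(0,[],[]),
(8,[345,343,4534,4536,4538,4540,4542,4688,4690,4692,4694,4696,4698,4700,4702],[346,1349,4135,4133]),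
(0,[],[]),
(0,[],[]),
(0,[],[]),
(0,[],[]),
(0,[],[]),
(5,[4610,4604,4554,339,2060,4568,4570,4572,4574,4706,4708,4710,4712,4714],[346,1349,4135,4133,4131,4129]),
(0,[],[]),
(0,[],[]),
(0,[],[]),
(0,[],[]),
(0,[],[]),
(0,[],[]),
(0,[],[]),
(0,[],[]),
(0,[],[]),
(0,[],[]),
(0,[],[]),
(0,[],[]),
(0,[],[]),
(7,[348,844,846,848,850,4718,4720,4722,4724,4726,4728,4730,4732,4734,4736,4738,4740,4742],[347,345,4612,4614,4661]),
(0,[],[]),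
(0,[],[]),
(0,[],[]),
(0,[],[]),
(0,[],[]),
(0,[],[]),
(8,[349,1349,1347,4624,4626,4746,4748,4750,4752,4754,4756],[350,823,821,22,824,826,828,830]),
(0,[],[]),
(3,[4128,4130,4705,4760],[4717]),
(0,[],[]),
(0,[],[]),
(0,[],[]),
(0,[],[]),
(0,[],[]),
(0,[],[]),
(0,[],[]),
(0,[],[]),
(0,[],[]),
(8,[353,823,892,908,910,912,914,4764,4766,4768,4770,4772,4774,4776,4778,4780],[767,789,787]),
(0,[],[]),
(0,[],[]),
(0,[],[]),
(3,[1092,1094,4784],[1233,2951]),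
(0,[],[]),
(0,[],[]),
(0,[],[]),
(0,[],[]),
(0,[],[]),
(0,[],[]),
(0,[],[]),
(0,[],[]),
(5,[362,2504,2532,551,4792,4794,4796,4798,4800,4802,4804,4806],[361,507,1981,1979,1977,3143,3297,2590]),
(0,[],[]),
(0,[],[]),
(0,[],[]),
(0,[],[]),
(0,[],[]),
(0,[],[]),
(0,[],[]),
(0,[],[]),
(0,[],[]),
(0,[],[]),
(7,[362,2504,2532,551,4792,4810,4812,4814,4816,4818,4820,4822,4824,4826,4828],[361,507,505,529,527,525,523,521]),
(0,[],[]),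
(0,[],[]),
(0,[],[]),
(0,[],[]),
(0,[],[]),
(0,[],[]),
(0,[],[]),
(0,[],[]),
(8,[3929,4053,2520,2522,2524,2526,4836,4838,4840,4842,4844,4846],[368,3949,3997,678,680,682,684]),
(0,[],[]),
(0,[],[]),
(0,[],[]),
(0,[],[]),
(0,[],[]),
(0,[],[]),
(0,[],[]),
(0,[],[]),
(0,[],[]),
(0,[],[]),
(0,[],[]),
(0,[],[]),
(5,[367,2420,2516,4060,4850,4852,4854,4856,4858,4860,4862,4864,4866,4868,4870,4872],[368,3949,3997,678]),
(3,[680,3998],[4875,4873,4871]),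
(0,[],[]),
(0,[],[]),
(0,[],[]),
(0,[],[]),
(0,[],[]),
(0,[],[]),
(0,[],[]),
(0,[],[]),
(0,[],[]),
(8,[379,2669,2667,2665,2663,4878,4880,4882,4884,4886,4888,4890,4892,4894],[380,2696,2698,2700,2702]),
(0,[],[]),
(3,[382,3838,4898],[2696,2698]),
(0,[],[]),
(0,[],[]),
(0,[],[]),
(4,[3838,3840,4904,4906],[384,386,243,409,407,405,403]),
(0,[],[]),
(0,[],[]),
(0,[],[]),
(8,[397,395,393,391,1162,1164,1166,1168,2883,2881,4914],[398,400,4909,4907,4905,3841,4898,4902]),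
(0,[],[]),
(0,[],[]),
(0,[],[]),
(0,[],[]),
(0,[],[]),
(0,[],[]),
(0,[],[]),
(0,[],[]),
(0,[],[]),
(7,[414,416,418,420,422,3825,4918,4920,4922,4924,4926,4928,4930,4932,4934],[413,411,278,647,3729,3739,438,3742]),
(0,[],[]),
(0,[],[]),
(0,[],[]),
(0,[],[]),
(0,[],[]),
(0,[],[]),
(0,[],[]),
(4,[3738,4183,4207,4942,4944,4946,4948,4950],[438,440,442]),
(0,[],[]),
(0,[],[]),
(0,[],[]),
(0,[],[]),
(0,[],[]),
(0,[],[]),
(0,[],[]),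
(0,[],[]),
(0,[],[]),
(0,[],[]),
(0,[],[]),
(0,[],[]),
(8,[441,3742,4937,4938,4940,4954,4956,4958,4960,4962,4964,4966,4968,4970,4972,4974,4976],[442,4953]),
(3,[444,446,448],[4953,4979]),
(0,[],[]),
(0,[],[]),
(7,[4980,4978,4952,443,4208,4210,4212,4214,4216,4218,3068,691,4982,4984],[450,4011,4009,4007,4005,4003,4001,3999,682]),
(0,[],[]),
(0,[],[]),
(0,[],[]),
(0,[],[]),
(0,[],[]),
(0,[],[])]
theorem ok9 : data.stepsOK st9 2250 = true := by decide +kernel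
def st10 : List Step := [
(0,[],[]),
(8,[473,70,1993,1991,1989,2164,2166,4988,4990,4992,4994,4996,4998,5000],[474,2081,2261,2259,3453]),
(5,[1568,1570],[1567,1563,1561,48,1463,1655,1713,1714,2217,2215,2213,4421,4419,4443,2166,4988,4990,4992]),
(3,[1570,5004,4994,4996],[1569]),
(0,[],[]),
(3,[476,2184,5008],[2081,2261]),
(0,[],[]),
(0,[],[]),
(0,[],[]),
(0,[],[]),
(0,[],[]),
(0,[],[]),
(0,[],[]),
(0,[],[]),
(0,[],[]),
(0,[],[]),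
(0,[],[]),
(0,[],[]),
(0,[],[]),
(0,[],[]),
(7,[476,2184,5008,5012,5014,5022,5024,5026,5028,5030,5032,5034,5036,5038],[475,473,69,67,567,2019,2017,2043,4544]),
(6,[],[1500,1502,1504,1506,1508,1565,1566,5007,4998,5000,5002,3452,2258,5011,5012]),
(3,[4546,4622,4662,4664],[5041,5039]),
(1,[5045],[]),
(1,[5047,5038],[]),
(3,[5014,5016],[5043,1499,1497]),
(0,[],[]),
(0,[],[]),
(0,[],[]),
(4,[2186,4834,5054,5056],[482,484,361,507,505,503,501]),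
(0,[],[]),
(0,[],[]),
(0,[],[]),
(0,[],[]),
(0,[],[]),
(5,[2186,2188,4576,4560,4562,4564,4566,4606,4608,5060,5062,5064,5066,5068],[482,555,553,551,549,2653]),
(0,[],[]),
(3,[1512,1514,1516],[498,5059]),
(3,[548,4792,4794],[2653,5071]),
(0,[],[]),
(0,[],[]),
(0,[],[]),
(0,[],[]),
(0,[],[]),
(0,[],[]),
(0,[],[]),
(0,[],[]),
(0,[],[]),
(6,[492,1387,1385,1383,5080,5082,5084,5086,5088,5090,5092,5094],[491,1425,1426]),
(0,[],[]),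
(0,[],[]),
(0,[],[]),
(0,[],[]),
(6,[1416,1405,5098,5102,5104],[496,498,500,502,504,1981,1979,1977,1975,1973]),
(0,[],[]),
(0,[],[]),
(0,[],[]),
(0,[],[]),
(0,[],[]),
(8,[495,493,491,489,1247,1245,1243,1241,1071,5114,5116],[496,498,5059,5057,5055,4835,2188,2190]),
(0,[],[]),
(0,[],[]),
(0,[],[]),
(0,[],[]),
(0,[],[]),
(0,[],[]),
(0,[],[]),
(0,[],[]),
(0,[],[]),
(0,[],[]),
(0,[],[]),
(7,[1416,1406,1408,1739,5108,5110,5112,5122,5124,5126,5128,5130,5132,5134,5136,5138,5140],[496,498,500,502,529,527]),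
(3,[1732,1734,1736,5108,5120],[]),
(0,[],[]),
(0,[],[]),
(0,[],[]),
(0,[],[]),
(0,[],[]),
(0,[],[]),
(0,[],[]),
(0,[],[]),
(0,[],[]),
(0,[],[]),
(0,[],[]),
(0,[],[]),
(5,[2446,2536,524,5143,5146,5148,5150,5152,5154,5156,5158,5160,5162,5164,5166,5168],[501,5059,5075,1518]),
(3,[1520,1522],[5171,5169,5167]),
(0,[],[]),
(0,[],[]),
(0,[],[]),
(0,[],[]),
(0,[],[]),
(0,[],[]),
(0,[],[]),
(0,[],[]),
(0,[],[]),
(7,[510,512,514,516,518,4831,5174,5176,5178,5180,5182,5184,5186,5188,5190],[509,151,31,29,929,1015,534,1117]),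
(0,[],[]),
(0,[],[]),
(0,[],[]),
(0,[],[]),
(0,[],[]),
(0,[],[]),
(0,[],[]),
(0,[],[]),
(0,[],[]),
(0,[],[]),
(0,[],[]),
(0,[],[]),
(8,[511,1173,1171,1169,1167,5194,5196,5198,5200,5202,5204,5206,5208,5210,5212,5214,5216],[1118,2869]),
(0,[],[]),
(0,[],[]),
(0,[],[]),
(0,[],[]),
(0,[],[]),
(0,[],[]),
(0,[],[]),
(0,[],[]),
(0,[],[]),
(0,[],[]),
(0,[],[]),
(5,[512,514,2392,2891,2889,5220,5222,5224,5226,5228,5230,5232,5234,5236,5238,5240],[1118,2869,5219,5217]),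
(3,[1120,1914,1916],[2869,5219]),
(0,[],[]),
(0,[],[]),
(0,[],[]),
(0,[],[]),
(6,[2392,2891,2889,2887,2885,1391,1418,1301,5248,5250,5252],[516,2396,3197,3195]),
(0,[],[]),
(8,[521,519,517,2392,2891,2889,2887,5256],[522,2537,2447,501,499,497,1416,1405,1403,1401,1399]),
(0,[],[]),
(3,[3190,3192,3194,5246,5260],[]),
(0,[],[]),
(0,[],[]),
(0,[],[]),
(0,[],[]),
(4,[532,534,1117,5193,5264,5266,5268,5270],[1022,1132,1158]),
(0,[],[]),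
(0,[],[]),
(0,[],[]),
(0,[],[]),
(0,[],[]),
(0,[],[]),
(0,[],[]),
(0,[],[]),
(0,[],[]),
(0,[],[]),
(8,[531,157,30,150,508,510,1118,2869,5219,5217,5215,5282,5284,5286,5288,5290,5292],[1022,1003]),
(0,[],[]),
(0,[],[]),
(8,[533,531,158,160,162,164,166,2967,3013,3011,3009,3048,3050,5296,5298],[534,1117,1115,3175]),
(0,[],[]),
(0,[],[]),
(0,[],[]),
(0,[],[]),
(0,[],[]),
(0,[],[]),
(0,[],[]),
(0,[],[]),
(0,[],[]),
(0,[],[]),
(0,[],[]),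
(0,[],[]),
(0,[],[]),
(0,[],[]),
(7,[536,1196,1236,1111,5302,5304,5306,5308,5310,5312,5314,5316,5318,5320,5322,5324,5326,5328],[535,533,1022,1003,5295]),
(0,[],[]),
(0,[],[]),
(0,[],[]),
(0,[],[]),
(0,[],[]),
(4,[1196,1198,5332,5334,5336,5338,5340],[538,540,1089,1087]),
(0,[],[]),
(0,[],[]),
(0,[],[]),
(0,[],[]),
(0,[],[]),
(0,[],[]),
(0,[],[]),
(0,[],[]),
(0,[],[]),
(0,[],[]),
(0,[],[]),
(8,[537,1117,5193,5264,5266,5344,5346,5348,5350,5352,5354,5356,5358,5360,5362,5364],[538,2833,2831]),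
(0,[],[]),
(0,[],[]),
(0,[],[]),
(0,[],[]),
(0,[],[]),
(0,[],[]),
(0,[],[]),
(0,[],[]),
(0,[],[]),
(0,[],[]),
(0,[],[]),
(5,[1196,1236,1112,3175,5301,5368,5370,5372,5374,5376,5378,5380,5382,5384,5386,5388],[538,2833,2831,5367]),
(3,[1002,1132,1134,2360],[5295,5331]),
(1,[5393],[]),
(1,[5395,5330],[]),
(3,[1200,1202,1204,2792],[5332]),
(3,[3168,3170,3172,5301,5368],[]),
(0,[],[]),
(0,[],[]),
(0,[],[]),
(0,[],[]),
(0,[],[]),
(0,[],[]),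
(0,[],[]),
(0,[],[]),
(0,[],[]),
(0,[],[]),
(0,[],[]),
(5,[542,544,2828,5367,5365,5402,5404,5406,5408,5410,5412,5414,5416,5418,5420,5422],[1089,1087,1085,1083]),
(3,[],[1078,1080,5425,5423,5421]),
(3,[5402],[5364,5391,5389,5387]),
(0,[],[]),
(4,[2828,5367,5391,5430],[546,548,550,2533,2506,2508,4832]),
(0,[],[]),
(0,[],[]),
(0,[],[]),
(0,[],[]),
(0,[],[]),
(0,[],[]),
(0,[],[]),
(0,[],[]),
(8,[545,543,1089,5274,5276,5278,5280,5434,5436,5438,5440,5442,5444,5446,5448],[546,2653,5071,5069]),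
(0,[],[]),
(0,[],[]),
(0,[],[]),
(0,[],[]),
(0,[],[]),
(0,[],[]),
(0,[],[]),
(0,[],[]),
(0,[],[]),
(7,[4792,4794,5076,5069,5451,5449,5447,5452,5454,5456,5458,5460,5462,5464,5466,5468],[550,2533,2506,4028,4030,4063,2514]),
(0,[],[]),
(0,[],[]),
(6,[2082,2084,3070,3074,3076,5472,5474],[560,562,564,2019,2017,2043,4544,5041]),
(0,[],[]),
(0,[],[]),
(0,[],[]),
(0,[],[]),
(0,[],[]),
(0,[],[]),
(0,[],[]),
(0,[],[]),
(0,[],[]),
(0,[],[]),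
(0,[],[])]
theorem ok10 : data.stepsOK st10 2500 = true := by decide +kernel
def st11 : List Step := [
(0,[],[]),
(7,[572,4266,5478,5480,5482,5484,5486,5488,5490,5492,5494,5496,5498,5500],[571,569,283,281,647,3729,4183,4207,4942]),
(0,[],[]),
(0,[],[]),
(0,[],[]),
(4,[590,592,594,596,2020,2022,5508],[4043,4041,4039,4037]),
(0,[],[]),
(0,[],[]),
(0,[],[]),
(0,[],[]),
(0,[],[]),
(0,[],[]),
(0,[],[]),
(0,[],[]),
(0,[],[]),
(8,[3505,4073,4068,4070,5512,5514,5516,5518,5520,5522,5524,5526,5528],[596,598,625,2163,3449,3447]),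
(0,[],[]),
(0,[],[]),
(0,[],[]),
(0,[],[]),
(0,[],[]),
(0,[],[]),
(5,[595,2044,2046,2048,2050,5532,5534,5536,5538,5540,5542],[596,598,625,2163,2161,2159,2157,2155,2153]),
(0,[],[]),
(0,[],[]),
(0,[],[]),
(0,[],[]),
(0,[],[]),
(0,[],[]),
(0,[],[]),
(4,[700,704,869,3769,5552,5554,5556,5558],[604,606,790]),
(0,[],[]),
(0,[],[]),
(0,[],[]),
(0,[],[]),
(6,[700,704,706,722,724,746,5562,5564,5566,5568],[604,1075,1073,1071,5114]),
(0,[],[]),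
(0,[],[]),
(0,[],[]),
(8,[603,35,15,4,238,254,256,371,3949,3947,3945,4044,4046,5572,5574,5576],[604,1075,4369]),
(0,[],[]),
(0,[],[]),
(0,[],[]),
(0,[],[]),
(0,[],[]),
(0,[],[]),
(0,[],[]),
(0,[],[]),
(0,[],[]),
(0,[],[]),
(0,[],[]),
(0,[],[]),
(0,[],[]),
(0,[],[]),
(8,[607,1075,1073,1240,1242,5584,5586,5588,5590,5592,5594,5596,5598,5600,5602,5604,5606],[790,5561]),
(0,[],[]),
(0,[],[]),
(0,[],[]),
(0,[],[]),
(0,[],[]),
(0,[],[]),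
(0,[],[]),
(0,[],[]),
(0,[],[]),
(0,[],[]),
(0,[],[]),
(5,[608,610,4380,5579,5577,5610,5612,5614,5616,5618,5620,5622,5624,5626,5628,5630],[790,5561,5609,5607]),
(6,[4452,5546,5548],[618,2059,2022,5508,5510,4035,4033,4063,2514,5471,5469,5467]),
(3,[792,794,796],[5561,5609]),
(3,[2192,5052],[5119,5117,5571]),
(0,[],[]),
(0,[],[]),
(0,[],[]),
(0,[],[]),
(0,[],[]),
(4,[610,612,4384,5640,5642,5644,5646,5648],[768,770,5582]),
(0,[],[]),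
(0,[],[]),
(0,[],[]),
(0,[],[]),
(0,[],[]),
(0,[],[]),
(0,[],[]),
(0,[],[]),
(8,[609,607,605,700,704,706,722,3675,3673,5652,5654,5656,5658,5660,5662,5664,5666],[768,5580]),
(0,[],[]),
(0,[],[]),
(0,[],[]),
(0,[],[]),
(0,[],[]),
(0,[],[]),
(0,[],[]),
(6,[4380,5579,5577,5575,5573,4047,4064,3967,5676,5678,5680,5682],[612,4384,5640]),
(0,[],[]),
(0,[],[]),
(0,[],[]),
(0,[],[]),
(0,[],[]),
(0,[],[]),
(0,[],[]),
(0,[],[]),
(0,[],[]),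
(7,[4380,4368,1074,605,700,704,706,708,1024,863,5686,5688,5690,5692,5694,5696,5698,5700,5702],[612,4384,5640,5685]),
(3,[770,772,774],[5580,5669]),
(3,[5078,5670,5672],[1490,1492]),
(0,[],[]),
(0,[],[]),
(0,[],[]),
(0,[],[]),
(0,[],[]),
(0,[],[]),
(5,[614,616,4452,5546,5548,5550,5710,5712,5714,5716,5718,5720],[613,611,609,790,5561,5609,5637,798]),
(0,[],[]),
(0,[],[]),
(0,[],[]),
(0,[],[]),
(0,[],[]),
(0,[],[]),
(0,[],[]),
(0,[],[]),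
(0,[],[]),
(7,[614,616,4452,5546,5548,5634,5466,5724,5726,5728,5730,5732,5734,5736,5738,5740],[613,611,768,5580,5669,5707,776]),
(0,[],[]),
(0,[],[]),
(0,[],[]),
(0,[],[]),
(0,[],[]),
(0,[],[]),
(0,[],[]),
(0,[],[]),
(0,[],[]),
(0,[],[]),
(0,[],[]),
(0,[],[]),
(0,[],[]),
(0,[],[]),
(7,[4452,4461,4360,5640,5642,5644,5744,5748,5750,5752,5754,5756,5758,5760,5762,5764,5766,5768,5770],[618,2059,2022,5508]),
(0,[],[]),
(0,[],[]),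
(0,[],[]),
(0,[],[]),
(0,[],[]),
(0,[],[]),
(8,[623,621,619,4452,5546,5548,5634,5465,5463,5461,5774,5776,5778,5780,5782,5784],[2163,2161,2159]),
(0,[],[]),
(0,[],[]),
(0,[],[]),
(0,[],[]),
(0,[],[]),
(0,[],[]),
(0,[],[]),
(0,[],[]),
(0,[],[]),
(0,[],[]),
(5,[624,599,2020,2022,2024,2026,5788,5790,5792,5794,5796,5798,5800,5802,5804,5806],[2163,2161,2159,5787]),
(3,[2024,2026,2028],[5508,5773,5771]),
(1,[5811],[]),
(1,[5813,5769],[]),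
(1,[2031,5814],[]),
(1,[5813,5770],[]),
(1,[5817],[]),
(1,[5821,5767],[]),
(3,[5642,5746],[5685,5705,5703]),
(0,[],[]),
(0,[],[]),
(0,[],[]),
(0,[],[]),
(0,[],[]),
(6,[628,630,632,634,636,3883,5826,5828,5830,5832,5834],[1350,1352,1354,3857]),
(0,[],[]),
(0,[],[]),
(0,[],[]),
(0,[],[]),
(0,[],[]),
(0,[],[]),
(8,[627,39,37,602,604,606,790,5561,5609,5607,5605,5838,5840,5842,5844,5846,5848],[1350,1352]),
(0,[],[]),
(0,[],[]),
(0,[],[]),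
(0,[],[]),
(0,[],[]),
(0,[],[]),
(0,[],[]),
(0,[],[]),
(0,[],[]),
(0,[],[]),
(0,[],[]),
(0,[],[]),
(0,[],[]),
(0,[],[]),
(0,[],[]),
(7,[632,1336,3912,3903,5854,5856,5858,5860,5862,5864,5866,5868,5870,5872,5874,5876,5878,5880],[631,629,1350,1352,5851]),
(3,[1366,3910,4386],[1352,5851,5883]),
(1,[5885],[]),
(1,[5887,5882],[]),
(0,[],[]),
(0,[],[]),
(0,[],[]),
(0,[],[]),
(0,[],[]),
(0,[],[]),
(0,[],[]),
(4,[1794,1798,2853,2851,5898,5900,5902],[640,1195,1193,1191]),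
(0,[],[]),
(6,[1794,1798,1800,1816,1818,2858,5906],[640,642,644,3729,4183,4207,4942,5503]),
(0,[],[]),
(0,[],[]),
(0,[],[]),
(0,[],[]),
(0,[],[]),
(0,[],[]),
(0,[],[]),
(0,[],[]),
(0,[],[]),
(0,[],[]),
(0,[],[]),
(0,[],[]),
(0,[],[]),
(0,[],[]),
(8,[689,687,4849,5910,5912,5914,5916,5922,5924,5926,5928,5930,5932,5934,5936],[690,3069,3067,3065]),
(0,[],[]),
(0,[],[]),
(0,[],[]),
(0,[],[]),
(0,[],[]),
(5,[4982,4984,4986,683,3998,4876,4869,5918,5920,5940,5942,5944,5946,5948],[690,3069,3067,3065,3063,3061]),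
(0,[],[]),
(3,[3060,3062,5939,5952],[5951]),
(0,[],[]),
(0,[],[]),
(8,[701,603,36,38,40,42,44,1365,1511,1509,1507,1656,1658,5956,5958],[704,869,867,2383]),
(0,[],[]),
(0,[],[]),
(0,[],[]),
(8,[709,707,705,702,303,301,299,4115,4301,4302,4304,4306,4308,4341,3697,3695,3639],[710,5962]),
(8,[2373,2371,1978,1980,505,503,501,5059,5075,1518,1520,1522,1524,1707,1658,5956,5958,5964],[2374]),
(0,[],[]),
(0,[],[]),
(0,[],[]),
(0,[],[]),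
(0,[],[]),
(0,[],[]),
(0,[],[]),
(7,[3636,5968,5963,711,1024,863,5686,5852,5972,5974,5976,5978,5980,5982,5984],[718,3125,3123,3121,3119,3669,3667,3665]),
(0,[],[]),
(0,[],[]),
(0,[],[]),
(0,[],[]),
(0,[],[]),
(0,[],[])]
theorem ok11 : data.stepsOK st11 2750 = true := by decide +kernel

end

end Power
end A2
end H77
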