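import Mathlib
import Cfsg.Agent.H77.A2.Power.Data

/-!
A derivation that (x y³)¹² fixes the first coset (generated data).
-/

set_option autoImplicit false
set_option maxRecDepth 100000
set_option linter.all false
set_option Elab.async false

namespace H77
namespace A2
namespace Power

open H93.CosetI

noncomputable section

def st12 : List Step := [
(0,[],[]),
(0,[],[]),
(0,[],[]),
(0,[],[]),
(0,[],[]),
(5,[726,728,3670,5652,5654,5656,5658,5992,5994,5996,5998,6000,6002,6004,6006,6008],[746,748,750,752]),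
(3,[754,756,4634],[6011,6009,6007]),
(1,[6013],[]),
(1,[6015,6005],[]),
(1,[4637,6016],[]),
(1,[6019],[]),
(1,[6021,6003],[]),
(1,[4686,6022],[]),
(1,[6025],[]),
(1,[6027,6001],[]),
(1,[4684,6028],[]),
(1,[6031],[]),
(1,[6033,5999],[]),
(1,[4682,6034],[]),
(1,[6037],[]),
(1,[6039,5997],[]),
(1,[4680,6040],[]),
(1,[6043],[]),
(1,[6045,5995],[]),
(3,[840,4339,5990],[1447,1445]),
(3,[858,860,5686,5852,5972],[]),
(0,[],[]),
(0,[],[]),
(0,[],[]),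
(0,[],[]),
(0,[],[]),
(0,[],[]),
(8,[729,727,746,5562,5564,5566,5568,5639,5053,2194,2196,2198,6054,6056,6058,6060,6062],[730,3533]),
(0,[],[]),
(0,[],[]),
(0,[],[]),
(0,[],[]),
(5,[3670,3672,3674,723,708,1024,863,5686,5852,5972,5974,5976,6066,6068,6070,6072],[730,3533,6065,6063]),
(0,[],[]),
(0,[],[]),
(0,[],[]),
(0,[],[]),
(3,[3524,3526,3528,6052],[3602]),
(0,[],[]),
(0,[],[]),
(0,[],[]),
(0,[],[]),
(0,[],[]),
(0,[],[]),
(0,[],[]),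
(0,[],[]),
(5,[2860,3312,3362,735,5988,6076,6078,6080,6082,6096,6098,6100],[742,1891,1889,1887,1885,1883,3437,3408]),
(0,[],[]),
(0,[],[]),
(0,[],[]),
(0,[],[]),
(0,[],[]),
(0,[],[]),
(0,[],[]),
(0,[],[]),
(8,[5505,4037,5511,5509,2023,2058,619,617,615,613,4380,4368,1073,1071,5114,5571,5569,6104],[5506]),
(0,[],[]),
(0,[],[]),
(3,[984,986,6124],[760,4083]),
(0,[],[]),
(0,[],[]),
(0,[],[]),
(0,[],[]),
(0,[],[]),
(0,[],[]),
(0,[],[]),
(0,[],[]),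
(0,[],[]),
(0,[],[]),
(0,[],[]),
(0,[],[]),
(0,[],[]),
(0,[],[]),
(0,[],[]),
(0,[],[]),
(5,[960,1026,784,4783,4781,6138,6140,6142,6144,6146,6148,6150,6152,6154,6156,6158],[763,4083,6127,6128]),
(3,[6130,6132],[6161,6159,6157]),
(0,[],[]),
(0,[],[]),
(0,[],[]),
(0,[],[]),
(0,[],[]),
(0,[],[]),
(0,[],[]),
(0,[],[]),
(0,[],[]),
(0,[],[]),
(0,[],[]),
(0,[],[]),
(7,[765,960,1026,783,6164,6168,6170,6172,6174,6176,6178,6180,6182,6184,6186],[766,353,351,349,1349,4135,4133,4131]),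
(0,[],[]),
(0,[],[]),
(0,[],[]),
(0,[],[]),
(0,[],[]),
(0,[],[]),
(0,[],[]),
(0,[],[]),
(0,[],[]),
(7,[770,772,774,776,778,4153,6190,6192,6194,6196,6198,6200,6202,6204,6206],[769,609,790,5561,5609,5637,798,5723]),
(0,[],[]),
(0,[],[]),
(0,[],[]),
(0,[],[]),
(0,[],[]),
(0,[],[]),
(0,[],[]),
(0,[],[]),
(0,[],[]),
(0,[],[]),
(0,[],[]),
(6,[772,6210,6212,6214,6216,6218,6220,6222,6224,6226,6228,6230],[5582,5651,5649]),
(0,[],[]),
(0,[],[]),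
(0,[],[]),
(0,[],[]),
(0,[],[]),
(0,[],[]),
(0,[],[]),
(0,[],[]),
(0,[],[]),
(7,[772,774,5706,5667,5665,5663,5661,5992,6047,4679,6234,6236,6238,6240,6242,6244,6246,6248,6250],[5582,5651,5649,6233]),
(3,[778,780,6164,6166],[5743]),
(3,[5744,5748,5750],[5646,6233,6253]),
(1,[6257],[]),
(1,[6259,6251],[]),
(1,[5750,6260],[]),
(1,[6263],[]),
(1,[6265,6249],[]),
(0,[],[]),
(0,[],[]),
(0,[],[]),
(0,[],[]),
(0,[],[]),
(0,[],[]),
(0,[],[]),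
(0,[],[]),
(0,[],[]),
(0,[],[]),
(5,[6164,6166,6254,5741,6268,6274,6276,6278,6280,6282,6284,6286],[782,1027,961,763,4083,6127,6125,988]),
(0,[],[]),
(0,[],[]),
(0,[],[]),
(0,[],[]),
(0,[],[]),
(0,[],[]),
(0,[],[]),
(0,[],[]),
(0,[],[]),
(0,[],[]),
(0,[],[]),
(0,[],[]),
(7,[6164,6166,6254,5741,6268,6270,6272,6290,6292,6294,6296,6298,6300,6302,6304,6306,6308,6310,6312],[782,1027,962,6122]),
(3,[964,966,968],[6122,6315,6313]),
(1,[6317],[]),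
(1,[6319,6311],[]),
(1,[971,6320],[]),
(1,[6323],[]),
(1,[6325,6309],[]),
(0,[],[]),
(0,[],[]),
(0,[],[]),
(0,[],[]),
(0,[],[]),
(0,[],[]),
(5,[792,794,796,798,800,6328,6330,6332,6334,6336,6338],[791,607,1075,1073,1071,1069,1067,1065,1063]),
(0,[],[]),
(0,[],[]),
(0,[],[]),
(0,[],[]),
(0,[],[]),
(0,[],[]),
(0,[],[]),
(4,[5636,5607,5633,6346,6348,6350,6352,6354],[798,800,802]),
(0,[],[]),
(0,[],[]),
(0,[],[]),
(0,[],[]),
(0,[],[]),
(0,[],[]),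
(0,[],[]),
(0,[],[]),
(0,[],[]),
(0,[],[]),
(0,[],[]),
(0,[],[]),
(8,[801,5723,6209,6342,6344,6358,6360,6362,6364,6366,6368,6370,6372,6374,6376,6378,6380],[802,6357]),
(3,[804,806,808],[6357,6383]),
(0,[],[]),
(0,[],[]),
(7,[6384,6382,6356,803,6328,6330,6332,6334,6336,6338,6340,1061,6386,6388],[810,1051,1049,1047,1045,1043,1041,1039,1052]),
(0,[],[]),
(0,[],[]),
(0,[],[]),
(4,[1028,1090,1233,1231,6392,6394,6396],[826,828,830,4759]),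
(0,[],[]),
(0,[],[]),
(0,[],[]),
(0,[],[]),
(0,[],[]),
(0,[],[]),
(0,[],[]),
(0,[],[]),
(0,[],[]),
(0,[],[]),
(4,[4788,6408,6410,6412,6414,6416,6418],[830,832,834,4517]),
(3,[6400],[954,983,981,979]),
(0,[],[]),
(0,[],[]),
(3,[1224,1226,1228,6392,6424],[]),
(0,[],[]),
(0,[],[]),
(0,[],[]),
(0,[],[]),
(0,[],[]),
(0,[],[]),
(0,[],[]),
(0,[],[]),
(0,[],[]),
(0,[],[]),
(8,[837,4517,6421,6419,6417,6430,6432,6434,6436,6438,6440,6442,6444,6446,6448],[838,1447,1445,1443]),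
(0,[],[]),
(0,[],[]),
(0,[],[]),
(0,[],[]),
(0,[],[]),
(0,[],[]),
(0,[],[]),
(0,[],[]),
(7,[4339,5990,6048,1443,6451,6449,6447,6452,6454,6456,6458,6460,6462,6464,6466],[842,327,4297,4295,4399,4397,4395,4393]),
(0,[],[]),
(0,[],[]),
(0,[],[]),
(0,[],[]),
(0,[],[]),
(0,[],[]),
(0,[],[]),
(0,[],[]),
(0,[],[]),
(0,[],[]),
(0,[],[]),
(0,[],[]),
(0,[],[]),
(4,[4154,4133,4131,6189,6488,6490,6492,6494],[848,850,4718]),
(0,[],[])]
theorem ok12 : data.stepsOK st12 3000 = true := by decide +kernel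
def st13 : List Step := [
(0,[],[]),
(0,[],[]),
(0,[],[]),
(8,[847,845,350,352,767,765,763,4083,6127,6128,6130,6132,6134,6498,6500,6502,6504],[848,6470]),
(3,[850,852,854],[6470,6507]),
(0,[],[]),
(0,[],[]),
(0,[],[]),
(0,[],[]),
(0,[],[]),
(0,[],[]),
(0,[],[]),
(0,[],[]),
(0,[],[]),
(0,[],[]),
(0,[],[]),
(0,[],[]),
(8,[851,6470,6472,6474,6476,6510,6512,6514,6516,6518,6520,6522,6524,6526,6528,6530,6532],[4718,6497]),
(3,[4720,4722,4724],[6497,6535]),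
(0,[],[]),
(0,[],[]),
(0,[],[]),
(0,[],[]),
(0,[],[]),
(6,[6508,6505,6503,6501,6499,6135,6162,6155,6540,6542,6544,6546],[856,6051,5974]),
(0,[],[]),
(0,[],[]),
(0,[],[]),
(0,[],[]),
(0,[],[]),
(0,[],[]),
(0,[],[]),
(0,[],[]),
(0,[],[]),
(7,[6508,6506,6471,849,4154,4133,4705,4760,4762,4715,6550,6552,6554,6556,6558,6560,6562,6564,6566],[856,6051,5974,6549]),
(3,[5976,6066],[6549,6569,6567]),
(0,[],[]),
(0,[],[]),
(0,[],[]),
(0,[],[]),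
(0,[],[]),
(0,[],[]),
(5,[858,860,5686,5688,5690,5692,6572,6574,6576,6578,6580,6582],[857,855,853,4718,6497,6535,6537,4726]),
(0,[],[]),
(0,[],[]),
(4,[1174,1176,6586,6588],[926,928,27,959,957,955,953]),
(0,[],[]),
(8,[1179,6586,6588,6590,952,6400,6402,6592],[1180,1182,1184,1186,1188,5905,5903,5901,5899,2849,2847]),
(0,[],[]),
(3,[6404,6406,6596],[950,6591]),
(0,[],[]),
(0,[],[]),
(0,[],[]),
(0,[],[]),
(0,[],[]),
(0,[],[]),
(0,[],[]),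
(0,[],[]),
(0,[],[]),
(0,[],[]),
(0,[],[]),
(0,[],[]),
(0,[],[]),
(8,[6591,6599,6600,6602,6604,6606,6608,6610,6612,6614,6616,6618,6620,6622,6624],[952,954,983,1131]),
(0,[],[]),
(0,[],[]),
(0,[],[]),
(0,[],[]),
(0,[],[]),
(0,[],[]),
(0,[],[]),
(0,[],[]),
(5,[955,6400,6422,977,6628,6630,6632,6634,6636,6638,6640,6642],[956,1033,1031,1090,1233,2951,4791,4786]),
(3,[972,974,6628,6630],[6326]),
(0,[],[]),
(0,[],[]),
(0,[],[]),
(0,[],[]),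
(0,[],[]),
(0,[],[]),
(0,[],[]),
(7,[6628,6630,6646,6307,6648,6650,6654,6656,6658,6660],[976,6423,6402,6592,6594,2845,2843,2841,2839,2837,1761,1759,1757]),
(0,[],[]),
(4,[982,956,1033,1034,1036,1052,6391,6664],[1131,6627,6625]),
(0,[],[]),
(0,[],[]),
(0,[],[]),
(4,[6124,6128,6161,6668,6670,6672],[988,990,992,3019,2990]),
(0,[],[]),
(0,[],[]),
(0,[],[]),
(0,[],[]),
(0,[],[]),
(8,[987,985,759,4634,4636,4638,4617,4661,4745,4743,6676,6678,6680,6682,6684],[988,6289,6287,6285]),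
(0,[],[]),
(3,[990,6136,6688],[6289,6287]),
(0,[],[]),
(0,[],[]),
(0,[],[]),
(0,[],[]),
(0,[],[]),
(0,[],[]),
(0,[],[]),
(0,[],[]),
(0,[],[]),
(0,[],[]),
(0,[],[]),
(7,[6136,6688,6690,6285,6687,6685,6683,6692,6694,6696,6698,6700,6702,6704,6706,6708,6710,6712],[992,3019,2990,2992,2994]),
(0,[],[]),
(3,[6675,6716],[2992,2994,6715]),
(0,[],[]),
(0,[],[]),
(0,[],[]),
(0,[],[]),
(0,[],[]),
(6,[1030,1034,1036,1052,1054,1076,5426,5419,6724,6726,6728],[1090,1233,1231,1229]),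
(0,[],[]),
(0,[],[]),
(0,[],[]),
(0,[],[]),
(0,[],[]),
(0,[],[]),
(0,[],[]),
(0,[],[]),
(0,[],[]),
(0,[],[]),
(0,[],[]),
(0,[],[]),
(7,[1036,1038,1238,1151,6732,6736,6738,6740,6742,6744,6746,6748,6750,6752,6754],[1035,1031,1090,1233,2951,4791,4786,6645]),
(0,[],[]),
(0,[],[]),
(0,[],[]),
(0,[],[]),
(0,[],[]),
(0,[],[]),
(0,[],[]),
(0,[],[]),
(0,[],[]),
(8,[1055,6391,6664,6666,6624,6766,6768,6770,6772,6774],[1076,1078,1080,1082,1084,5343,5341,5339,5337]),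
(3,[1146,1148,6732,6734,6758],[]),
(0,[],[]),
(0,[],[]),
(0,[],[]),
(0,[],[]),
(0,[],[]),
(0,[],[]),
(0,[],[]),
(0,[],[]),
(0,[],[]),
(0,[],[]),
(0,[],[]),
(0,[],[]),
(0,[],[]),
(0,[],[]),
(8,[1059,1057,1076,5426,5419,6724,6726,6788,6790,6792,6794,6796,6798,6800,6802,6804,6806],[1060,6341]),
(0,[],[]),
(0,[],[]),
(0,[],[]),
(0,[],[]),
(5,[6386,6388,6390,1053,1038,1238,1151,6732,6734,6758,6760,6762,6810,6812,6814,6816],[1060,6341,6809,6807]),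
(0,[],[]),
(3,[1062,6764,6820],[6341,6809]),
(0,[],[]),
(0,[],[]),
(0,[],[]),
(0,[],[]),
(0,[],[]),
(0,[],[]),
(0,[],[]),
(0,[],[]),
(0,[],[]),
(0,[],[]),
(7,[6764,6820,6822,6807,6805,6803,6801,6826,6828,6830,6832,6834,6836,6838,6840,6842],[1064,1559,1488,1490,1492,5709,5674]),
(3,[6824],[6804,6819,6817,6815]),
(0,[],[]),
(0,[],[]),
(0,[],[]),
(8,[4747,4628,4630,4632,4621,6106,6108],[4748,4750,4752,4754,4756,6399,6397,6395,6393,1229,6731,6848,6850]),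
(1,[6855],[]),
(1,[6857,6851],[]),
(3,[6110],[6858,6849,6729,6788,6790]),
(1,[6861],[]),
(1,[6863,6792],[]),
(1,[6113,6864],[]),
(1,[6863,6791],[]),
(1,[6867],[]),
(1,[6871,6794],[]),
(1,[6115,6872],[]),
(1,[6875],[]),
(1,[6877,6796],[]),
(1,[6117,6878],[]),
(1,[6881],[]),
(1,[6883,6798],[]),
(0,[],[]),
(0,[],[]),
(0,[],[]),
(0,[],[]),
(0,[],[]),
(0,[],[]),
(0,[],[]),
(0,[],[]),
(0,[],[]),
(0,[],[]),
(4,[4784,4786,6645,6757,6898,6900,6902,6904],[1096,1098,6894]),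
(0,[],[]),
(0,[],[]),
(0,[],[]),
(0,[],[]),
(0,[],[]),
(0,[],[]),
(0,[],[]),
(0,[],[]),
(0,[],[]),
(0,[],[]),
(0,[],[]),
(0,[],[]),
(0,[],[]),
(8,[1099,6886,6888,6890,6892,6910,6912,6914,6916,6918,6920,6922,6924,6926,6928,6930,6932],[6894,6907]),
(0,[],[]),
(0,[],[]),
(0,[],[]),
(0,[],[]),
(0,[],[]),
(0,[],[]),
(0,[],[]),
(0,[],[]),
(5,[1106,1108,5302,5304,5306,5308,6936,6938,6940,6942,6944,6946,6948,6950],[1105,1103,1101,6894,6907,6935]),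
(0,[],[]),
(0,[],[]),
(0,[],[]),
(0,[],[]),
(0,[],[]),
(0,[],[]),
(0,[],[]),
(0,[],[]),
(6,[5302,5304,5306,6954,6956,6964,6966,6968],[1110,1237,1198,5332,5334,6777,6775]),
(0,[],[]),
(0,[],[]),
(3,[6956,6958,6960],[6972,6974]),
(0,[],[]),
(0,[],[]),
(0,[],[]),
(0,[],[]),
(0,[],[]),
(0,[],[]),
(0,[],[]),
(0,[],[]),
(0,[],[]),
(0,[],[]),
(0,[],[])]
theorem ok13 : data.stepsOK st13 3250 = true := by decide +kernel
def st14 : List Step := [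
(0,[],[]),
(0,[],[]),
(7,[1128,6627,6766,6768,6982,6984,6986,6988,6990,6992,6994,6996,6998,7000,7002],[1127,1125,1123,1121,2869,5219,5217,5243]),
(0,[],[]),
(0,[],[]),
(0,[],[]),
(0,[],[]),
(0,[],[]),
(0,[],[]),
(0,[],[]),
(0,[],[]),
(6,[1134,1136,1138,6720,6722,7008,7010,7012,7014,7016,7018,7020],[1158,5273,5271]),
(0,[],[]),
(0,[],[]),
(0,[],[]),
(0,[],[]),
(0,[],[]),
(0,[],[]),
(0,[],[]),
(0,[],[]),
(0,[],[]),
(0,[],[]),
(7,[1134,2360,5396,5293,5291,5289,5287,6978,6980,7024,7026,7028,7030,7032,7034,7036,7038,7040,7042],[1158,5273,5271,7023]),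
(0,[],[]),
(0,[],[]),
(0,[],[]),
(0,[],[]),
(8,[1135,1133,1023,532,534,536,538,2833,2831,5367,5365,5402,5404,7046,7048,7050,7052],[1136,7006]),
(0,[],[]),
(0,[],[]),
(0,[],[]),
(0,[],[]),
(0,[],[]),
(5,[2360,5396,5294,1001,2914,2988,2990,6675,6716,6718,6713,7056,7058,7060,7062,7064],[1136,7006,7055,7053]),
(3,[1138,1140,1142],[7006,7055]),
(7,[2510,2512,4062,4032,4034,5511,5509,2024,2026,5788,5790],[4832,5433,5431,5389,5387,5429,5404,7046,7048,7050,7067,7065]),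
(3,[5344],[5268,7023,7045,7043]),
(8,[6811,6763,6761,6778,1145,7068,7053,7067,7065,7071,5792,5794,5796],[6812,6847,6825,6803,6801,6885,6118]),
(1,[7075],[]),
(1,[7077,6119],[]),
(0,[],[]),
(0,[],[]),
(0,[],[]),
(0,[],[]),
(0,[],[]),
(0,[],[]),
(0,[],[]),
(3,[5798,5800],[7078,6117,6115]),
(3,[7080],[7050,7067,7065,7063]),
(0,[],[]),
(8,[1149,1147,1145,7068,7053,7051,7049,7098],[1150,1239,1039,1052,1054,1076,5426,5419,5417,5415,5413]),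
(0,[],[]),
(0,[],[]),
(0,[],[]),
(0,[],[]),
(0,[],[]),
(0,[],[]),
(0,[],[]),
(0,[],[]),
(0,[],[]),
(8,[1165,2937,2935,4910,4912,7102,7104,7106,7108,7110,7112,7114,7116,7118],[1166,1168,2883,2881,4914]),
(0,[],[]),
(0,[],[]),
(0,[],[]),
(0,[],[]),
(0,[],[]),
(0,[],[]),
(0,[],[]),
(0,[],[]),
(0,[],[]),
(0,[],[]),
(7,[1236,1112,1114,5193,5264,5266,5344,7072,7042,7122,7124,7126,7128,7130,7132,7134,7136,7138,7140],[1198,5332,5334,6777]),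
(3,[5336,6852],[6777,7143,7141]),
(0,[],[]),
(0,[],[]),
(5,[2792,5398,5333,1199,1236,1112,3175,5301,5368,5400,3167,3406,3436,1881,7146,7148],[1206,1789,1911,1872]),
(0,[],[]),
(3,[2340,2342,2344],[2616,7152]),
(0,[],[]),
(0,[],[]),
(4,[2240,2244,2311,7156,7158],[1218,1220,1222,6429,6426,6908]),
(0,[],[]),
(0,[],[]),
(0,[],[]),
(0,[],[]),
(0,[],[]),
(0,[],[]),
(0,[],[]),
(0,[],[]),
(7,[1228,6392,6424,6426,6908,7161,7162,7164,7166,7168,7170,7172,7174,7176],[6731,6729,6727,6725,5417,5415,5413,5411,7082]),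
(0,[],[]),
(0,[],[]),
(0,[],[]),
(0,[],[]),
(0,[],[]),
(0,[],[]),
(0,[],[]),
(7,[1232,1092,1094,1096,1098,6894,6896,7180,7182,7184,7186,7188,7190,7192],[1231,1229,6731,6729,6788,6869,6112,7095,5802]),
(0,[],[]),
(0,[],[]),
(0,[],[]),
(0,[],[]),
(0,[],[]),
(0,[],[]),
(0,[],[]),
(7,[1486,1558,1066,6780,6782,6784,6786,7196,7198,7200,7202,7204,7206,7208],[1242,1244,1246,488,1425,1423,1448,1450,1452]),
(3,[],[5784,5809,5807,5805,7195,7193]),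
(1,[7213],[]),
(1,[7215,7191],[]),
(1,[5785,7216],[]),
(1,[7219],[]),
(1,[7221,7189],[]),
(1,[5787,7222],[]),
(1,[7225],[]),
(1,[7227,7187],[]),
(1,[2156,7228],[]),
(1,[7231],[]),
(1,[7233,7185],[]),
(1,[2154,7234],[]),
(1,[7237],[]),
(1,[7239,7183],[]),
(1,[2152,7240],[]),
(1,[7243],[]),
(1,[7245,7181],[]),
(1,[5544,7246],[]),
(1,[7249],[]),
(1,[7251,6897],[]),
(3,[7253,5544,2152],[6907,6935,6953]),
(1,[7255],[]),
(1,[7257,6951],[]),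
(1,[2155,7258],[]),
(1,[7261],[]),
(1,[7263,6949],[]),
(3,[6946,7265,2156,2158,2160,3449],[]),
(1,[7267],[]),
(1,[7269,6945],[]),
(1,[3446,7270],[]),
(1,[7273],[]),
(1,[7275,6943],[]),
(1,[3444,7276],[]),
(1,[7279],[]),
(1,[7281,6941],[]),
(0,[],[]),
(3,[1296,1298,5248,7284],[4528]),
(0,[],[]),
(0,[],[]),
(0,[],[]),
(0,[],[]),
(0,[],[]),
(0,[],[]),
(0,[],[]),
(0,[],[]),
(0,[],[]),
(0,[],[]),
(0,[],[]),
(7,[5248,7284,7286,4483,6652,7288,7290,7292,7294,7296,7298,7300,7302,7304,7306,7308],[1300,1419,1390,2884,5256,5258,1398]),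
(3,[1400,1402,5098,5100],[7311]),
(0,[],[]),
(0,[],[]),
(8,[1305,1303,1301,5248,5250,5252,5254,3193,3191,3189,7314,7316],[1593,1591,1589,5890,5892,5894,5896]),
(0,[],[]),
(0,[],[]),
(0,[],[]),
(0,[],[]),
(0,[],[]),
(0,[],[]),
(0,[],[]),
(0,[],[]),
(0,[],[]),
(0,[],[]),
(0,[],[]),
(8,[5851,5889,4388,4390,6469,7320,7322,7324,7326,7328,7330,7332,7334,7336,7338,7340],[1354,3857,3855]),
(0,[],[]),
(0,[],[]),
(0,[],[]),
(0,[],[]),
(0,[],[]),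
(0,[],[]),
(0,[],[]),
(0,[],[]),
(0,[],[]),
(0,[],[]),
(0,[],[]),
(0,[],[]),
(8,[1357,3857,5837,7344,7346,7348,7350,7352,7354,7356,7358,7360,7362,7364,7366],[1358,1360,1485,1483]),
(0,[],[]),
(0,[],[]),
(0,[],[]),
(0,[],[]),
(0,[],[]),
(0,[],[]),
(0,[],[]),
(7,[1630,3860,3852,7343,7341,7339,7337,7370,7372,7374,7376,7378,7380,7382],[1358,1360,1362,1511,1565,1563,1594,1596,1598]),
(0,[],[]),
(0,[],[]),
(0,[],[]),
(0,[],[]),
(0,[],[]),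
(0,[],[]),
(0,[],[]),
(0,[],[]),
(0,[],[]),
(0,[],[]),
(8,[1485,1557,7386,7388,7390,7392,7394,7396,7398,7400,7402,7404],[1362,1511,1565,1566,1568,1572,1574]),
(0,[],[]),
(0,[],[]),
(0,[],[]),
(0,[],[]),
(0,[],[]),
(0,[],[]),
(0,[],[]),
(8,[1389,1278,1280,1282,251,249,247,245,387,385,3838,4898,4902,4917,7121,7420],[1390,2884,5256]),
(6,[5259,7423,7421,7120,4916,4903,4900,2700,2702,4897,4895,4893],[1398,7311,7309,7307]),
(1,[7425],[]),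
(1,[7427,7306],[]),
(0,[],[]),
(0,[],[]),
(0,[],[]),
(0,[],[]),
(3,[1968,1970,1972,2492,7434],[]),
(0,[],[]),
(0,[],[]),
(0,[],[]),
(0,[],[]),
(0,[],[]),
(0,[],[]),
(0,[],[]),
(0,[],[]),
(7,[5098,5100,7312,7309,7430,7432,7436,7440,7442,7444,7446,7448,7450,7452,7454],[1404,1417,496,498,5059,5075,1518,5171]),
(0,[],[]),
(0,[],[]),
(0,[],[]),
(0,[],[]),
(0,[],[]),
(0,[],[]),
(8,[1409,1407,1405,5098,5102,5104,5106,1971,1969,1967,7458,7460,7462,7464,7466,7468],[1739,1737,1735]),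
(0,[],[]),
(0,[],[]),
(0,[],[]),
(0,[],[]),
(0,[],[]),
(6,[1422,1426,1428,1430,1432,5072,7472,7474,7476,7478,7480],[1448,1450,1452,7211]),
(0,[],[]),
(0,[],[]),
(0,[],[]),
(3,[7488],[1458,1629,1705,1703]),
(0,[],[]),
(0,[],[]),
(0,[],[]),
(0,[],[])]
theorem ok14 : data.stepsOK st14 3500 = true := by decide +kernel
def st15 : List Step := [
(0,[],[]),
(6,[1748,1750,7492,7494,7496,7498,7500],[1456,1458,1460,1655,1653,1679,1931,1929]),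
(0,[],[]),
(0,[],[]),
(0,[],[]),
(0,[],[]),
(0,[],[]),
(0,[],[]),
(0,[],[]),
(0,[],[]),
(0,[],[]),
(0,[],[]),
(0,[],[]),
(0,[],[]),
(8,[1455,7211,7483,7504,7506,7508,7510,7512,7514,7516,7518,7520,7522,7524,7526],[1456,1458,1629,1627]),
(0,[],[]),
(0,[],[]),
(0,[],[]),
(0,[],[]),
(0,[],[]),
(0,[],[]),
(0,[],[]),
(0,[],[]),
(0,[],[]),
(0,[],[]),
(8,[1629,1705,7530,7532,7534,7536,7538,7540,7542,7544,7546,7548],[1460,1655,1713,1714,1716,1718,1720]),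
(0,[],[]),
(0,[],[]),
(0,[],[]),
(0,[],[]),
(0,[],[]),
(0,[],[]),
(0,[],[]),
(0,[],[]),
(0,[],[]),
(0,[],[]),
(0,[],[]),
(7,[1459,7488,7490,1701,7552,7554,7556,7558,7560,7562,7564,7566,7568,7570,7572],[1460,1655,1653,1679,1677,1675,1673,1671]),
(0,[],[]),
(0,[],[]),
(4,[7369,7367,7576,7578],[1482,1484,1362,1511,1509,1507,1505]),
(0,[],[]),
(8,[1487,1241,1072,1074,605,700,704,869,867,2383,5961,5964,5966,7582],[1488,1490,1492,1494,1496]),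
(6,[1496,7585,7583,5967,5970,2375,2588,2590,2592,2594,2596],[1495,5709,5674,6845,6843]),
(1,[7587],[]),
(1,[7589,6842],[]),
(1,[7589,6841],[]),
(1,[2596,7592],[]),
(1,[7595],[]),
(1,[7597,6839],[]),
(3,[2596,2598,2600],[7598,6837]),
(0,[],[]),
(0,[],[]),
(0,[],[]),
(0,[],[]),
(0,[],[]),
(0,[],[]),
(0,[],[]),
(0,[],[]),
(0,[],[]),
(0,[],[]),
(0,[],[]),
(0,[],[]),
(0,[],[]),
(7,[5042,5014,5016,5018,5020,7602,7604,7608,7610,7612,7614,7616,7618,7620,7622,7624,7626],[1500,1502,1504,1506,1531,1529]),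
(0,[],[]),
(3,[1680,1682,7630],[1502,7581]),
(0,[],[]),
(0,[],[]),
(0,[],[]),
(0,[],[]),
(0,[],[]),
(0,[],[]),
(0,[],[]),
(0,[],[]),
(0,[],[]),
(0,[],[]),
(0,[],[]),
(0,[],[]),
(0,[],[]),
(8,[7581,7633,7634,7636,7638,7640,7642,7644,7646,7648,7650,7652,7654,7656,7658],[1504,1506,1531,1837]),
(0,[],[]),
(0,[],[]),
(0,[],[]),
(0,[],[]),
(0,[],[]),
(0,[],[]),
(5,[1503,1680,1682,1684,1686,7662,7664,7666,7668,7670,7672],[1504,1506,1531,1837,1835,1833,1831,1829,1827]),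
(0,[],[]),
(0,[],[]),
(0,[],[]),
(0,[],[]),
(0,[],[]),
(0,[],[]),
(0,[],[]),
(0,[],[]),
(0,[],[]),
(0,[],[]),
(0,[],[]),
(0,[],[]),
(5,[1656,1706,1526,7629,7676,7678,7680,7682,7684,7686,7688,7690,7692,7694,7696,7698],[1505,7581,7633,7634]),
(0,[],[]),
(0,[],[]),
(0,[],[]),
(6,[5074,5057,5055,4835,2188,2190,2192,2194,2196,7704,7706],[1518,5171,7457,7455]),
(0,[],[]),
(0,[],[]),
(0,[],[]),
(0,[],[]),
(0,[],[]),
(0,[],[]),
(0,[],[]),
(5,[5172,5166,5168,7457,7702,7710,7712,7714,7716,7718,7720,7722],[1524,1707,1657,1505,7581,7633,7631,1684]),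
(0,[],[]),
(0,[],[]),
(0,[],[]),
(0,[],[]),
(0,[],[]),
(6,[1562,1566,1568,1572,1574,7407,7726,7728,7730,7732,7734],[1594,1596,1598,7385]),
(0,[],[]),
(0,[],[]),
(0,[],[]),
(0,[],[]),
(0,[],[]),
(0,[],[]),
(0,[],[]),
(4,[1576,7738,7740,7742,7744,7746,7748,7750],[7407,7726,7728]),
(0,[],[]),
(3,[1830,1832,1834,7661,7754],[]),
(0,[],[]),
(0,[],[]),
(6,[1578,1580,1582,1584,1586,5890,5892,5894,5896,7319,7758,7760],[7738,7740,7742]),
(0,[],[]),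
(0,[],[]),
(0,[],[]),
(8,[7411,7409,5090,5092,5094,5096,1427,1423,1421,44,46,1560,1594,1596,1598,7385,7737,7768],[7412]),
(3,[7414],[7771,7769,7735,7764,7766]),
(1,[7773],[]),
(1,[7775,7767],[]),
(0,[],[]),
(0,[],[]),
(4,[7529,7527,7778,7780],[1626,1628,1460,1655,1653,1651,1649]),
(0,[],[]),
(0,[],[]),
(3,[1790,1792,7786],[1646,7783]),
(0,[],[]),
(0,[],[]),
(0,[],[]),
(0,[],[]),
(0,[],[]),
(0,[],[]),
(0,[],[]),
(0,[],[]),
(0,[],[]),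
(0,[],[]),
(0,[],[]),
(0,[],[]),
(0,[],[]),
(8,[7783,7789,7790,7792,7794,7796,7798,7800,7802,7804,7806,7808,7810,7812,7814],[1648,1650,1679,1931]),
(0,[],[]),
(0,[],[]),
(0,[],[]),
(0,[],[]),
(0,[],[]),
(0,[],[]),
(0,[],[]),
(0,[],[]),
(0,[],[]),
(7,[1660,1662,1664,1666,1668,7575,7818,7820,7822,7824,7826,7828,7830,7832,7834],[1659,1657,1505,7581,7633,7631,1684,7725]),
(0,[],[]),
(0,[],[]),
(0,[],[]),
(0,[],[]),
(0,[],[]),
(0,[],[]),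
(0,[],[]),
(4,[7630,7634,7701,7842,7844,7846,7848,7850],[1684,1686,1688]),
(0,[],[]),
(0,[],[]),
(0,[],[]),
(0,[],[]),
(0,[],[]),
(0,[],[]),
(0,[],[]),
(0,[],[]),
(0,[],[]),
(0,[],[]),
(0,[],[]),
(0,[],[]),
(8,[1687,7725,7837,7838,7840,7854,7856,7858,7860,7862,7864,7866,7868,7870,7872,7874,7876],[1688,7853]),
(3,[1690,1692,1694],[7853,7879]),
(0,[],[]),
(0,[],[]),
(0,[],[]),
(7,[7880,7878,7852,1689,7662,7664,7666,7668,7670,7672,7674,1825,7886],[1696,1815,1813,1811,1809,1807,1805,1803,1816,2797]),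
(0,[],[]),
(0,[],[]),
(0,[],[]),
(0,[],[]),
(0,[],[]),
(0,[],[]),
(8,[1699,1815,1813,7882,7884,7890,7892,7894,7896,7898,7900],[1700,7491,7489,1457,1748,1750,7492,7494]),
(0,[],[]),
(0,[],[]),
(0,[],[]),
(0,[],[]),
(6,[1710,1714,1716,1718,1720,7551,7908,7910],[1740,1742,1744,2243,2244,2311,7156]),
(3,[7492,7904,7906],[1752,1754,6663]),
(1,[7914],[]),
(1,[7917,7907],[]),
(3,[7158,7162,7164,7166],[7913]),
(0,[],[]),
(0,[],[]),
(0,[],[]),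
(0,[],[]),
(4,[1722,7924,7926,7928],[7551,7908,7910,7921,7168,7170,7172]),
(0,[],[]),
(0,[],[]),
(3,[1924,1926,1928,7817,7932],[]),
(3,[7084],[7179,7177,7175,7931]),
(6,[7938,7929,7927,7925,1724,1726,1728,1730,1732,7471,7469,7467,7465,7463],[7086]),
(3,[7088,7090,7092],[7941,7461,7459]),
(1,[7942],[]),
(1,[7945,7093],[]),
(1,[1964,7946],[]),
(1,[7949],[]),
(1,[7951,7091],[]),
(0,[],[]),
(0,[],[]),
(0,[],[]),
(0,[],[]),
(0,[],[]),
(0,[],[]),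
(0,[],[]),
(0,[],[]),
(0,[],[]),
(0,[],[]),
(5,[5108,5120,5144,1731,7922,7954,7956,7958,7960,7972],[1738,1409,1407,1405,1403,1401,7311,7309,7429,4891]),
(4,[2704,2706,2708,2710,2756,2758],[4897,4895,4893,4891,7975]),
(3,[2760,2762,2764],[7976,7973,7961]),
(1,[7979],[]),
(1,[7981,7962],[]),
(1,[2767,7982],[]),
(1,[7985],[]),
(1,[7987,7964],[]),
(1,[2769,7988],[]),
(1,[7991],[]),
(1,[7993,7966],[]),
(1,[2771,7994],[]),
(1,[7997],[])]
theorem ok15 : data.stepsOK st15 3750 = true := by decide +kernel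
def st16 : List Step := [
(1,[7999,7968],[]),
(0,[],[]),
(3,[1892,1894,8002],[1764,2834]),
(0,[],[]),
(0,[],[]),
(0,[],[]),
(0,[],[]),
(0,[],[]),
(0,[],[]),
(5,[1892,1894,8002,8006,8008,8010,8012,8014,8016],[1763,1761,1759,1757,6663,7918,7905,7494,7903,7901,7899]),
(0,[],[]),
(0,[],[]),
(0,[],[]),
(0,[],[]),
(0,[],[]),
(5,[1870,1910,1788,1207,2792,5398,5334,5336,6852,7144,7139,8020,8022,8024,8026,8028],[1767,2834,8005,8006]),
(0,[],[]),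
(3,[],[7894,7896,8019,8017,8015]),
(3,[8008,8010],[8031,8029,8027]),
(0,[],[]),
(0,[],[]),
(0,[],[]),
(0,[],[]),
(0,[],[]),
(0,[],[]),
(0,[],[]),
(0,[],[]),
(0,[],[]),
(0,[],[]),
(5,[2815,2854,2856,2825,8038,8044,8046,8048,8050,8052,8054,8056],[1786,1911,1871,1767,2834,8005,8003,1896]),
(0,[],[]),
(0,[],[]),
(0,[],[]),
(0,[],[]),
(0,[],[]),
(7,[2815,2854,2856,2825,8038,8040,8042,8060,8062,8064,8066,8068],[1786,1911,1872,7151,7149,7147,1880,3437,3408,6103,6101]),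
(3,[3410,3582],[6103,6101,8071]),
(0,[],[]),
(0,[],[]),
(0,[],[]),
(0,[],[]),
(0,[],[]),
(0,[],[]),
(0,[],[]),
(0,[],[]),
(0,[],[]),
(8,[6961,6959,6964,6966,6968,6970,6774,7143,7141,7139,8020,8022,8024,8037,8012,8035,7893,8074],[6962]),
(0,[],[]),
(0,[],[]),
(0,[],[]),
(0,[],[]),
(0,[],[]),
(0,[],[]),
(8,[1823,1821,2858,5906,5908,5502,4943,4205,4203,4201,4450,7784,8096,8098,8100,8102,8104],[1824,7675]),
(0,[],[]),
(3,[1826,8094,8108],[7675,8107]),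
(0,[],[]),
(0,[],[]),
(0,[],[]),
(0,[],[]),
(5,[7661,7754,7756,1829,8094,8108,8112,8114,8116,8118],[1836,1529,1527,1525,1523,1521,5171,7457,7455,7453]),
(4,[2198,6054,6056,6058,6086,6088],[7704,7706,7708,7453,8121]),
(3,[6090,6092,6094],[8122,8119,8117]),
(1,[8125],[]),
(1,[8127,8115],[]),
(1,[6094,8128],[]),
(1,[8131],[]),
(1,[8133,8113],[]),
(5,[8110,8106,7674,1825,7886,7888,2795,2778,2751,2782,2784,2786,2788],[8135,6093,6091,6089,6087,6060,6075]),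
(0,[],[]),
(0,[],[]),
(8,[1871,1768,144,146,1607,1605,1603,1601,7385,7737,7768,7770,7413,7411,8138,8140],[1872,7151,7149]),
(0,[],[]),
(0,[],[]),
(0,[],[]),
(0,[],[]),
(0,[],[]),
(0,[],[]),
(0,[],[]),
(0,[],[]),
(7,[1874,1876,1878,1880,1882,2359,3300,8144,8146,8148,8150,8152,8154,8156,8158],[1873,1871,1767,2834,8005,8003,1896,8059]),
(5,[1902,1904,1906,1908,110,2314,2338,2340,2342,2344,2346,2348],[1901,1899,8059,8161,8159,8157,8155,8153,8151]),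
(1,[8163],[]),
(1,[8165,8149],[]),
(1,[2351,8166],[]),
(1,[8165,8150],[]),
(1,[8169],[]),
(1,[8173,8147],[]),
(0,[],[]),
(0,[],[]),
(6,[7146,8143,8141,8139,7410,7412,7414,7416,7418,8176,8178],[1880,3437,3408,6103]),
(0,[],[]),
(0,[],[]),
(0,[],[]),
(0,[],[]),
(0,[],[]),
(0,[],[]),
(0,[],[]),
(0,[],[]),
(0,[],[]),
(0,[],[]),
(8,[1883,3437,3408,3410,3412,3414,8182,8184,8186,8188,8190,8192,8194,8196,8198,8200],[2359,2357,2355]),
(0,[],[]),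
(0,[],[]),
(0,[],[]),
(0,[],[]),
(0,[],[]),
(0,[],[]),
(5,[2538,2540,2573,1901,2568,8204,8206,8208,8210,8212,8214],[1908,109,2574,2576,2587,2611,2609,2607,2605]),
(0,[],[]),
(4,[5244,5217,5243,7005,8218],[1918,1920,1922,7937,7934,8032]),
(0,[],[]),
(0,[],[]),
(0,[],[]),
(0,[],[]),
(0,[],[]),
(0,[],[]),
(0,[],[]),
(0,[],[]),
(7,[1928,7817,7932,7934,8032,8221,8222,8224,8226,8228,8230,8232,8234,8236],[7503,7501,7499,7497,7903,7901,7899,8019,8076]),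
(0,[],[]),
(0,[],[]),
(0,[],[]),
(0,[],[]),
(0,[],[]),
(0,[],[]),
(0,[],[]),
(0,[],[]),
(7,[1934,3434,3367,195,3336,3309,3307,3360,3364,3329,8240,8242,8244,8246,8248,8250,8252,8254],[1954,3440,3442,7282,6939]),
(3,[3444,5531],[7282,6939,8257]),
(0,[],[]),
(0,[],[]),
(5,[4462,4449,3441,1955,1934,3434,3368,3370,3454,3518,3425,8260,8262],[1962,7952,7089,7087,7085,7179,7177]),
(5,[3422,8260,8262,8264,7176,7178,7083,5410,7101,7099,7048,7080,7096,7061],[3421,3419,3417,8182,8184,8186]),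
(4,[],[5764,5823,2031,2029,5788,5790,7070,7063,7061,8266,8188]),
(3,[8190,8192],[8269,5763,5761,5759]),
(1,[8270],[]),
(1,[8273,8194],[]),
(1,[5756,8274],[]),
(1,[8277],[]),
(1,[8279,8196],[]),
(1,[5754,8280],[]),
(1,[8283],[]),
(1,[8285,8198],[]),
(1,[5752,8286],[]),
(1,[8289],[]),
(1,[8291,8200],[]),
(1,[5750,8292],[]),
(1,[8295],[]),
(1,[8297,8202],[]),
(1,[6267,8298],[]),
(1,[8300],[]),
(1,[8303,6267],[]),
(1,[8303,6247],[]),
(1,[2352,8306],[]),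
(1,[8309],[]),
(1,[8311,6245],[]),
(1,[2350,8312],[]),
(1,[8315],[]),
(1,[8317,6243],[]),
(1,[2348,8318],[]),
(1,[8321],[]),
(1,[8323,6241],[]),
(8,[7152,7155,2346,2348,2350,2352,8304,5749,5745,5645,5746,5824,5701,5699,5697,5695,6572,6574,6576],[2618]),
(1,[8326],[]),
(1,[8329,6578],[]),
(1,[2621,8330],[]),
(1,[8333],[]),
(1,[8335,6580],[]),
(1,[2623,8336],[]),
(1,[8339],[]),
(1,[8341,6582],[]),
(3,[8342,6584,4728],[2624,2233,2231]),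
(1,[8344],[]),
(1,[8347,4729],[]),
(1,[2228,8348],[]),
(1,[8351],[]),
(1,[8353,4727],[]),
(1,[2226,8354],[]),
(1,[8353,6585],[]),
(1,[8357],[]),
(1,[8361,4725],[]),
(1,[2224,8362],[]),
(1,[8365],[]),
(1,[8367,4723],[]),
(0,[],[]),
(0,[],[]),
(0,[],[]),
(0,[],[]),
(0,[],[]),
(5,[2492,7434,7438,1967,7458,7460,7462,7484,7486,8370,8372,8374,8376,8378],[1974,3143,3297,2590,4809,4807]),
(3,[2592,2718],[4809,4807,8381]),
(0,[],[]),
(0,[],[]),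
(0,[],[]),
(3,[2032,2034,2578,8384],[5822]),
(0,[],[]),
(0,[],[]),
(0,[],[]),
(0,[],[]),
(0,[],[]),
(0,[],[]),
(7,[2058,620,622,2163,3449,3447,5531,8258,8256,6937,5310,5312,5314,8392,8394,8396,8398,8400,8402],[2022,5508,5510,4035]),
(5,[2192,5052,5638,5569,6104,6120,5507],[2191,2189,2187,482,555,553,2533,2506,4028,4030,4032,8405,8403]),
(5,[5314,8392,8394,8396,8398],[5313,5311,5309,6954,6972,6974,6977,6962,8093,8075,7892,7894,7896,8019,8076,8239]),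
(1,[8408],[]),
(1,[8411,8400],[]),
(5,[8082,8084,8086,8088,8090],[8081,8079,8239,8412,8407,5505,4037,5511,5773,5819,2030,5822,8391,8385,2580]),
(3,[8090,8414,2582,8386,8388],[]),
(0,[],[]),
(0,[],[]),
(8,[2041,2039,2037,2578,2580,2582,2584,2611,2609,2607,8418,8420],[4544,5041,5049,4666,4668,4670,4672]),
(0,[],[]),
(0,[],[]),
(0,[],[]),
(0,[],[]),
(0,[],[]),
(0,[],[]),
(0,[],[]),
(0,[],[]),
(0,[],[]),
(0,[],[]),
(0,[],[]),
(0,[],[]),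
(8,[2225,8368,6478,6480,6482,6484,6486,8432,8434,8436,8438,8440,8442,8444,8446],[2226,8358,8343,2623]),
(0,[],[]),
(0,[],[]),
(0,[],[]),
(0,[],[]),
(0,[],[]),
(0,[],[]),
(0,[],[]),
(0,[],[]),
(0,[],[]),
(0,[],[]),
(7,[2320,2322,2324,2326,2328,3197,5246,5260,5262,3189,7314,8462,8464,8466,8468],[2319,2317,2338,2616,7152,7155,2346,8324]),
(0,[],[]),
(0,[],[]),
(0,[],[]),
(8,[2345,2343,2612,2614,2626,2628,2630,3129,3073,3074,3076,3078,8424,8474,8476],[2346,8324,6239,6237]),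
(0,[],[]),
(3,[2348,8170,8480],[8324,6239]),
(0,[],[]),
(0,[],[]),
(0,[],[]),
(4,[3078,8424,8474,8476],[5472,5474,5476,5049,4666,4668,4670]),
(0,[],[]),
(0,[],[]),
(5,[3300,8144,8175,2351,8170,8480,8484,8486,8488,8492,8494],[2358,1883,3437,3408,6103,6101,8071,8069,8067]),
(0,[],[])]
theorem ok16 : data.stepsOK st16 4000 = true := by decide +kernel
def st17 : List Step := [
(0,[],[]),
(0,[],[]),
(0,[],[]),
(0,[],[]),
(0,[],[]),
(0,[],[]),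
(0,[],[]),
(0,[],[]),
(0,[],[]),
(5,[8386,8388,8416,8089,8426,8428,8430,8504,8506,8508,8510,8512,8514,8516],[2584,2611,2609,2607,2605,8217]),
(3,[2604,8418,8420],[8217,8519]),
(0,[],[]),
(0,[],[]),
(8,[2601,2599,7590,6844,5675,5708,1494,5051,5017,5022,5024,5026,7606,8522,8524],[2602,8217,8519,8517]),
(0,[],[]),
(0,[],[]),
(0,[],[]),
(0,[],[]),
(0,[],[]),
(5,[7600,6836,7599,2595,2718,8382,8379,8500,8502,8528,8530,8532,8534,8536],[2602,8217,8519,8517,8515,8513]),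
(0,[],[]),
(3,[8512,8514,8527,8540],[8539]),
(0,[],[]),
(0,[],[]),
(0,[],[]),
(0,[],[]),
(0,[],[]),
(0,[],[]),
(5,[2620,8449,8450,8452,8454,8456,8544,8546,8548,8550,8552,8554],[2619,7152,7155,2346,8324,6239,8483,8484]),
(3,[8486,8488,8492],[8557,8555]),
(0,[],[]),
(0,[],[]),
(0,[],[]),
(0,[],[]),
(0,[],[]),
(0,[],[]),
(5,[2638,2281,3298,3287,8458,8460,8560,8562,8564,8566,8568,8570],[2637,3245,3293,216,3359,3581,3595,3596]),
(3,[3598,3600,3658],[8573,8571]),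
(0,[],[]),
(0,[],[]),
(0,[],[]),
(0,[],[]),
(0,[],[]),
(0,[],[]),
(8,[2789,2787,2785,2790,2773,8000,7970,8576,8578,8580,8582,8584,8586],[8136,6073,6071,6069,6570,6565]),
(0,[],[]),
(0,[],[]),
(0,[],[]),
(0,[],[]),
(0,[],[]),
(0,[],[]),
(0,[],[]),
(0,[],[]),
(0,[],[]),
(0,[],[]),
(0,[],[]),
(0,[],[]),
(0,[],[]),
(0,[],[]),
(0,[],[]),
(7,[5939,5952,5954,5949,8590,8592,8594,8596,8598,8600,8602,8604,8606,8608,8610,8612,8614,8616,8618],[3064,3127,3108,8498]),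
(3,[3110,3112,3114],[8498,8621,8619]),
(1,[8623],[]),
(1,[8625,8617],[]),
(1,[3117,8626],[]),
(1,[8629],[]),
(1,[8631,8615],[]),
(1,[3668,8632],[]),
(1,[8635],[]),
(1,[8637,8613],[]),
(1,[3666,8638],[]),
(1,[8641],[]),
(1,[8643,8611],[]),
(1,[3664,8644],[]),
(1,[8647],[]),
(1,[8649,8609],[]),
(1,[3662,8650],[]),
(1,[8653],[]),
(1,[8655,8607],[]),
(0,[],[]),
(0,[],[]),
(0,[],[]),
(0,[],[]),
(8,[7731,7753,7751,7749,7747],[7732,7764,7777,7416,7418,8176,8178,8180,6101,8071,8069,8658,8660,8662]),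
(3,[8464,8466,8468,8472],[8664]),
(0,[],[]),
(0,[],[]),
(0,[],[]),
(5,[7762,7744,8666,8663,8670],[7761,7759,7317,8462,8664,8669,8473,8470,6239,8483,8484,8557,8555,8559,8494]),
(0,[],[]),
(7,[6052,6084,3603,3523,3592,3596,3598,3600,3658,3660,3662,5987,8678],[3530,6065,6063,6075,6073,6071,6069,6067,5978,6538]),
(0,[],[]),
(0,[],[]),
(7,[3577,3630,3634,3585,8072,8069,8658,8660,8670,8672,8674,8682,8684],[3578,3595,3596,8573,8571,8575,3660,8656,8605,8603]),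
(0,[],[]),
(0,[],[]),
(0,[],[]),
(5,[8678,8680,6539,5979,6066,6570,6565,8589,8688,8690,8692],[5986,3663,8656,8605,8603,8687,8685,8683,8675]),
(0,[],[]),
(0,[],[]),
(0,[],[]),
(7,[8479,8490,4672,8423,8520,8517,8527,8540,8542,8537,8696,8698,8700],[6236,8483,8484,8557,8555,8559,8494,8677,8672,8695])]
theorem ok17 : data.stepsOK st17 4250 = true := by decide +kernel

end

end Power
end A2
end H77
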